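import Cfsg.Agent.Lib.Recog.FiTrans23.SearchDefs

set_option autoImplicit false
set_option maxRecDepth 20000

/-! The checks of the leaves (owner: helper22). -/

namespace CfsgLib.Recog.FiTrans23

open CfsgLib.ThreeTrans CfsgLib.Recog.FiM22 CfsgLib.Recog.FiM22.Tuple

theorem leaves_checked : leaves.all leafOK' = true := by decide +kernel

end CfsgLib.Recog.FiTrans23
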