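import Cfsg.Agent.Lib.Recog.FiTrans23.SearchDefs

set_option autoImplicit false
set_option maxRecDepth 20000

/-! The checks of the nodes (owner: helper22). -/

namespace CfsgLib.Recog.FiTrans23

open CfsgLib.ThreeTrans CfsgLib.Recog.FiM22 CfsgLib.Recog.FiM22.Tuple

theorem steps_checked : stepsOK 7 prog 7 = true := by decide +kernel

theorem node_checked_0 : nodeOK' node0 = true := by decide +kernel

theorem node_checked_1 : nodeOK' node1 = true := by decide +kernel

theorem node_checked_2 : nodeOK' node2 = true := by decide +kernel

theorem node_checked_3 : nodeOK' node3 = true := by decide +kernel

theorem node_checked_4 : nodeOK' node4 = true := by decide +kernel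

theorem node_checked_5 : nodeOK' node5 = true := by decide +kernel

theorem node_checked_6 : nodeOK' node6 = true := by decide +kernel

theorem node_checked_7 : nodeOK' node7 = true := by decide +kernel

theorem node_checked_8 : nodeOK' node8 = true := by decide +kernel

theorem node_checked_9 : nodeOK' node9 = true := by decide +kernel

theorem node_checked_10 : nodeOK' node10 = true := by decide +kernel

theorem node_checked_11 : nodeOK' node11 = true := by decide +kernel

theorem node_checked_12 : nodeOK' node12 = true := by decide +kernel

theorem node_checked_13 : nodeOK' node13 = true := by decide +kernel

theorem node_checked_14 : nodeOK' node14 = true := by decide +kernel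

theorem nodes_checked : nodes.all nodeOK' = true := by
  simp only [nodes, List.all_cons, List.all_nil, Bool.and_true, node_checked_0, node_checked_1, node_checked_2, node_checked_3, node_checked_4, node_checked_5, node_checked_6, node_checked_7, node_checked_8, node_checked_9, node_checked_10, node_checked_11, node_checked_12, node_checked_13, node_checked_14]

theorem tree_checked : nodes.all (fun T => Nat.blt T.pre.length 8 && T.roots.all fun r =>
    (nodes.map (·.pre)).contains (T.pre ++ [r]) || (leaves.map (·.1)).contains (T.pre ++ [r])) = true := by
  decide +kernel

theorem start_checked : node0.pre = [([], 0)] := by decide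

theorem base_checked : basePt 0 = 0 := by decide +kernel

end CfsgLib.Recog.FiTrans23
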