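import Cfsg.Agent.Lib.Recog.FiTrans23.SearchDefs

set_option autoImplicit false
set_option maxRecDepth 20000

/-! The checks of a set of 126 members (owner: helper22). -/

namespace CfsgLib.Recog.FiTrans23

open CfsgLib.ThreeTrans CfsgLib.Recog.FiM22 CfsgLib.Recog.FiM22.Tuple

theorem rep_checked_2 : repOK rep2 = true := by decide +kernel

theorem root_checked_2_0 : rootOK rep2 0 = true := by decide +kernel

theorem root_checked_2_1 : rootOK rep2 1 = true := by decide +kernel

theorem roots_checked_2 : (List.range rep2.forest.roots.length).all (rootOK rep2) = true := by
  rw [show rep2.forest.roots.length = 2 from by decide +kernel]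
  simp [List.range_succ, root_checked_2_0, root_checked_2_1]

end CfsgLib.Recog.FiTrans23
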