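import Cfsg.Agent.Lib.Recog.FiTrans23.Hom
import Cfsg.Agent.Lib.Recog.FiTrans22.Exit
import Cfsg.Agent.Lib.Recog.FiTypes.Type23

/-!
The embedded Fi23 is the whole group (owner: helper22).
-/

set_option autoImplicit false
set_option maxRecDepth 20000

namespace CfsgLib.Recog.FiTrans23

open Cfsg CfsgLib.ThreeTrans CfsgLib.Recog.FiM22 CfsgLib.Recog.FiTrans22
open CfsgLib.Recog.FiM22.Factor (ComList NoRel)
open CfsgLib.Recog.FiM22Two (BigModule bigG members ea_comm ea_closure)

universe u v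

variable {G : Type v} [Group G] [Finite G] {Q : Type u} [Group Q] [Finite Q] {d : G}

/-- The embedding of Fi23. -/
structure Emb (X : Local d Q) where
  /-- the map -/
  ψ : Spor.Fi23 →* G
  inj : Function.Injective ψ
  cent : Subgroup.centralizer ({d} : Set G) ≤ ψ.range
  mem_iff : ∀ x : G, x ∈ conjugatesOf d ∧ x ∈ ψ.range ↔ x ∈ ψ '' FiThree.trans

theorem exists_emb (X : Local d Q) : Nonempty (Emb X) := by
  obtain ⟨ψ, h1, h2, h3⟩ := X.exists_embedding
  exact ⟨⟨ψ, h1, h2, h3⟩⟩

namespace Emb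

variable {X : Local d Q} (M : Emb X)
include M

theorem cent_mem {g : G} (hg : Commute g d) : g ∈ M.ψ.range := M.cent (X.mem_C.2 hg)

theorem mem_T {x : G} (hx : x ∈ conjugatesOf d) (hxH : x ∈ M.ψ.range) : x ∈ M.ψ '' FiThree.trans :=
  (M.mem_iff x).1 ⟨hx, hxH⟩

theorem d_mem : d ∈ M.ψ '' FiThree.trans := M.mem_T mem_conjugatesOf_self (M.cent_mem (Commute.refl d))

theorem transH {x : G} (hx : x ∈ conjugatesOf d) (hxH : x ∈ M.ψ.range) :
    ∃ h ∈ M.ψ.range, h * x * h⁻¹ = d := by
  obtain ⟨s, hs, rfl⟩ := M.mem_T hx hxH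
  obtain ⟨s', hs', e⟩ := M.d_mem
  obtain ⟨g, rfl⟩ := FiThree.mem_trans.1 hs
  obtain ⟨g', rfl⟩ := FiThree.mem_trans.1 hs'
  refine ⟨M.ψ (g' * g⁻¹), ⟨_, rfl⟩, (?_ : _ = M.ψ (g' * FiThree.zz * g'⁻¹)).trans e⟩
  simp only [map_mul, map_inv]
  group

theorem cent_member {x : G} (hx : x ∈ conjugatesOf d) (hxH : x ∈ M.ψ.range) (g : G) (hg : Commute g x) :
    g ∈ M.ψ.range := by
  obtain ⟨h, hh, hhx⟩ := M.transH hx hxH
  have hc : Commute (h * g * h⁻¹) d := hhx ▸ commute_conj_iff.2 hg
  have := mul_mem (mul_mem (inv_mem hh) (M.cent_mem hc)) hh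
  rwa [show h⁻¹ * (h * g * h⁻¹) * h = g by group] at this

theorem controlled {x : G} (hx : x ∈ conjugatesOf d) (hxH : x ∈ M.ψ.range) : Controlled M.ψ.range x :=
  controlled_member (D := conjugatesOf d) (fun g _ h => X.conj_mem g h) mem_conjugatesOf_self
    (M.cent_mem (Commute.refl d)) (fun _ h h' => M.transH h h') (fun _ h h' => M.cent_member h h') hx hxH

theorem set3 : IsThreeTranspositionSet (M.ψ '' FiThree.trans) := by
  refine ⟨?_, ?_⟩
  · rintro _ ⟨s, hs, rfl⟩
    rw [orderOf_injective M.ψ M.inj]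
    exact FiThree.trans_class.1.1 s hs
  · rintro _ ⟨s, hs, rfl⟩ _ ⟨t, ht, rfl⟩
    exact (FiThree.trans_class.1.2 s hs t ht).imp (fun h => by rw [← map_mul, ← map_pow, h, map_one])
      (fun h => by rw [← map_mul, ← map_pow, h, map_one])

theorem noRel {k : ℕ} (h3 : 3 ≤ k) (h6 : k ≤ 6) : NoRel (M.ψ '' FiThree.trans) k := by
  classical
  intro l hl hlen hprod
  have hex : ∀ x ∈ l, ∃ s ∈ FiThree.trans, M.ψ s = x := fun x hx => hl.mem x hx
  choose f hf hfx using hex
  set l' := l.attach.map fun x => f x.1 x.2 with hl'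
  have hmap : l'.map M.ψ = l := by
    rw [hl', List.map_map]
    conv_rhs => rw [← List.attach_map_subtype_val l]
    exact List.map_congr_left fun x _ => hfx x.1 x.2
  have hc : ComList FiThree.trans l' := by
    refine ⟨?_, ?_, ?_⟩
    · exact List.Nodup.of_map M.ψ (hmap.symm ▸ hl.nodup)
    · rintro a ha
      obtain ⟨x, -, rfl⟩ := List.mem_map.1 ha
      exact hf x.1 x.2
    · intro a ha b hb
      have h1 : M.ψ a ∈ l := hmap ▸ List.mem_map.2 ⟨a, ha, rfl⟩
      have h2 : M.ψ b ∈ l := hmap ▸ List.mem_map.2 ⟨b, hb, rfl⟩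
      refine M.inj ?_
      rw [map_mul, map_mul]
      exact (hl.comm _ h1 _ h2).eq
  haveI : Finite Spor.Fi23 := Finite.of_injective M.ψ M.inj
  refine Factor.m23_noRel FiTypes.type23 (Factor.trans_of_prim (group_of_class FiThree.trans_class)
    FiTypes.primitive23) h3 h6 l' hc (by rw [hl', List.length_map, List.length_attach, hlen]) (M.inj ?_)
  rw [map_list_prod, hmap, hprod, map_one]

theorem isPair_conj {h w : G} (hh : h ∈ M.ψ.range) (hw : IsPair (conjugatesOf d) M.ψ.range w) :
    IsPair (conjugatesOf d) M.ψ.range (h * w * h⁻¹) := by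
  obtain ⟨p, q, hp, hpH, hq, hqH, hne, hc, rfl⟩ := hw
  exact ⟨h * p * h⁻¹, h * q * h⁻¹, X.conj_mem h hp, mul_mem (mul_mem hh hpH) (inv_mem hh), X.conj_mem h hq,
    mul_mem (mul_mem hh hqH) (inv_mem hh), fun e => hne (mul_left_cancel (mul_right_cancel e)),
    hc.map (MulAut.conj h).toMonoidHom, by group⟩

theorem exists_fixed {t : G} (ht : t ∈ M.ψ.range) (h2 : t * t = 1) :
    ∃ f ∈ M.ψ '' FiThree.trans, Commute t f := by
  haveI : Fact (Nat.Prime 2) := ⟨Nat.prime_two⟩
  by_contra hno
  push Not at hno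
  set T := M.ψ '' FiThree.trans with hT
  have hTconj : ∀ z ∈ T, t * z * t⁻¹ ∈ T := by
    rintro _ ⟨s, hs, rfl⟩
    obtain ⟨k, rfl⟩ := id ht
    obtain ⟨g, rfl⟩ := FiThree.mem_trans.1 hs
    exact ⟨k * (g * FiThree.zz * g⁻¹) * k⁻¹, FiThree.mem_trans.2 ⟨k * g, by group⟩, by rw [map_mul, map_mul, map_inv]⟩
  have hback : ∀ z : G, t * (t * z * t⁻¹) * t⁻¹ = z := fun z => by
    rw [show t * (t * z * t⁻¹) * t⁻¹ = t * t * z * (t * t)⁻¹ by group, h2, one_mul, inv_one, mul_one]
  have h := FiM22Two.ncard_modEq_fixed (p := 2) (MulAut.conj t).toEquiv (Equiv.ext fun z => hback z) T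
    fun z => ⟨fun h => hback z ▸ hTconj _ h, fun h => hTconj z h⟩
  have hempty : T ∩ {z | (MulAut.conj t).toEquiv z = z} = ∅ :=
    Set.eq_empty_of_forall_notMem fun z hz => hno z hz.1 (mul_inv_eq_iff_eq_mul.1 hz.2)
  rw [hempty, Set.ncard_empty, hT, Set.ncard_image_of_injective _ M.inj, ← Nat.card_coe_set_eq,
    FiThree.card_trans] at h
  exact absurd h (by decide)

variable {K : Subgroup Q}

omit M in
theorem bigG_comm {x : G} (hx : x ∈ bigG X.π K) : Commute x d := by
  obtain ⟨c, -, rfl⟩ := hx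
  exact X.mem_C.1 c.2

/-- An involution of the image which is no transposition is conjugate into the module. -/
theorem to_module (B : BigModule X.E K) {t : G} (ht : t ∈ M.ψ.range) (h2 : t * t = 1) (h1 : t ≠ 1) (htD : t ∉ conjugatesOf d) :
    ∃ k ∈ M.ψ.range, k * t * k⁻¹ ∈ bigG X.π K := by
  obtain ⟨f, hfT, hfc⟩ := M.exists_fixed ht h2
  obtain ⟨hfD, hfH⟩ := (M.mem_iff f).2 hfT
  obtain ⟨h, hh, hhf⟩ := M.transH hfD hfH
  set t' := h * t * h⁻¹ with ht'
  have hc : Commute t' d := hhf ▸ commute_conj_iff.2 hfc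
  obtain ⟨c, hcd, hct⟩ := Local.exists_to_module X B hc
    (by rw [ht', show h * t * h⁻¹ * (h * t * h⁻¹) = h * (t * t) * h⁻¹ by group, h2, mul_one, mul_inv_cancel])
    (fun e => h1 (conj_eq_one_iff.1 e))
    (fun e => htD (by
      have := X.conj_mem h⁻¹ (show t' ∈ conjugatesOf d from e ▸ mem_conjugatesOf_self)
      rwa [ht', show h⁻¹ * (h * t * h⁻¹) * h⁻¹⁻¹ = t by group] at this))
  exact ⟨c * h, mul_mem (M.cent_mem hcd) hh, by
    rwa [show c * h * t * (c * h)⁻¹ = c * t' * c⁻¹ by rw [ht']; group]⟩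

/-- Every element of the module is the product of at most three of its members, and no short products agree. -/
theorem module_lists (B : BigModule X.E K) :
    (∀ a ∈ bigG X.π K, ∃ l : List G, l.length ≤ 3 ∧ l.prod = a ∧
      ComList (M.ψ '' FiThree.trans) l ∧ ∀ x ∈ l, x ∈ bigG X.π K) ∧
    (∀ l : List G, ComList (M.ψ '' FiThree.trans) l → l.length ≤ 3 → (∀ x ∈ l, x ∈ bigG X.π K) →
      ∃ f ∈ bigG X.π K, f ∈ M.ψ '' FiThree.trans ∧ f ∉ l ∧
        ∀ l' : List G, (∀ x ∈ l', x ∈ bigG X.π K) → ComList (M.ψ '' FiThree.trans) l' → l'.length = 2 →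
          l.length = 3 → f * l.prod ≠ l'.prod) := by
  classical
  set A := bigG X.π K with hA
  set T := M.ψ '' FiThree.trans with hTdef
  have hcomm : ∀ a b : A, a * b = b * a := fun a b => Subtype.ext (ea_comm (X.cover.ea_bigG B) a.2 b.2).eq
  letI : CommGroup A := { (inferInstance : Group A) with mul_comm := hcomm }
  haveI : Fintype A := Fintype.ofFinite A
  have hsq : ∀ a : A, a * a = 1 := fun a => Subtype.ext (by
    show (a : G) * a = 1
    rw [← pow_two]; exact (X.cover.ea_bigG B).2 a a.2)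
  set S : Finset A := Finset.univ.filter fun a : A => IsConj d (a : G) with hS
  have hScard : S.card = 23 := by
    rw [← X.cover.ncard_conjugates B X.coe X.fused, ← Set.ncard_coe_finset,
      ← Set.ncard_image_of_injective (S : Set A) Subtype.val_injective]
    congr 1
    ext x
    simp [hS, hA, and_comm]
  have hST : ∀ a ∈ S, (a : G) ∈ T := fun a ha => M.mem_T (Finset.mem_filter.1 ha).2
    (M.cent_mem (bigG_comm a.2))
  have hlist : ∀ s : Finset A, s ⊆ S → ComList T (s.toList.map Subtype.val) ∧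
      (s.toList.map Subtype.val).prod = ((∏ a ∈ s, a : A) : G) := by
    intro s hs
    refine ⟨⟨s.nodup_toList.map Subtype.val_injective, fun x hx => ?_, fun x hx y hy => ?_⟩, ?_⟩
    · obtain ⟨a, ha, rfl⟩ := List.mem_map.1 hx
      exact hST a (hs (Finset.mem_toList.1 ha))
    · obtain ⟨a, -, rfl⟩ := List.mem_map.1 hx
      obtain ⟨b, -, rfl⟩ := List.mem_map.1 hy
      exact ea_comm (X.cover.ea_bigG B) a.2 b.2
    · rw [← Subgroup.val_list_prod, Finset.prod_toList]
  have hinj : ∀ s t : Finset A, s ⊆ S → t ⊆ S → s.card + t.card ≤ 6 →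
      (∏ a ∈ s, a) = ∏ a ∈ t, a → s = t := by
    intro s t hs ht hcard he
    have h1 : ∏ a ∈ s \ t, a = ∏ a ∈ t \ s, a := by
      rw [← Finset.prod_sdiff (Finset.inter_subset_left : s ∩ t ⊆ s),
        ← Finset.prod_sdiff (Finset.inter_subset_right : s ∩ t ⊆ t), Finset.sdiff_inter_self_left,
        Finset.sdiff_inter_self_right] at he
      exact mul_right_cancel he
    set u := s \ t ∪ t \ s with hu
    have hu1 : ∏ a ∈ u, a = 1 := by
      rw [hu, Finset.prod_union disjoint_sdiff_sdiff, h1, hsq]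
    have huS : u ⊆ S := Finset.union_subset (Finset.sdiff_subset.trans hs) (Finset.sdiff_subset.trans ht)
    have hu6 : u.card ≤ 6 := (Finset.card_union_le _ _).trans
      (by have := Finset.card_le_card (Finset.sdiff_subset : s \ t ⊆ s)
          have := Finset.card_le_card (Finset.sdiff_subset : t \ s ⊆ t)
          omega)
    obtain ⟨hl, hp⟩ := hlist u huS
    rw [hu1, Subgroup.coe_one] at hp
    have hlen : (u.toList.map Subtype.val).length = u.card := by rw [List.length_map, Finset.length_toList]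
    have hu0 : u.card = 0 := by
      by_contra h0
      rcases (by omega : u.card = 1 ∨ u.card = 2 ∨ 3 ≤ u.card) with h | h | h
      · obtain ⟨x, hx⟩ := List.length_eq_one_iff.1 (hlen.trans h)
        rw [hx, List.prod_singleton] at hp
        exact ne_one M.set3 (hl.mem x (hx ▸ List.mem_singleton_self x)) hp
      · exact Factor.noRel_two M.set3 _ hl (hlen.trans h) hp
      · exact M.noRel h hu6 _ hl hlen hp
    rw [Finset.card_eq_zero, hu, Finset.union_eq_empty] at hu0
    exact Finset.Subset.antisymm (Finset.sdiff_eq_empty_iff_subset.1 hu0.1) (Finset.sdiff_eq_empty_iff_subset.1 hu0.2)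
  have hsurj : ∀ a : A, ∃ s : Finset A, s ⊆ S ∧ s.card ≤ 3 ∧ (∏ b ∈ s, b) = a := by
    intro a
    set P := (Finset.range 4).biUnion fun k => S.powersetCard k with hP
    have hPmem : ∀ s, s ∈ P ↔ s ⊆ S ∧ s.card ≤ 3 := fun s => by
      simp only [hP, Finset.mem_biUnion, Finset.mem_range, Finset.mem_powersetCard]
      exact ⟨fun ⟨k, hk, h1, h2⟩ => ⟨h1, by omega⟩, fun ⟨h1, h2⟩ => ⟨s.card, by omega, h1, rfl⟩⟩
    have hPcard : P.card = 2048 := by
      rw [hP, Finset.card_biUnion fun i _ j _ hij => Finset.disjoint_left.2 fun s hi hj =>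
        hij ((Finset.mem_powersetCard.1 hi).2.symm.trans (Finset.mem_powersetCard.1 hj).2)]
      simp only [Finset.card_powersetCard, hScard]
      decide
    have himg : P.image (fun s => ∏ b ∈ s, b) = Finset.univ := by
      refine Finset.eq_univ_of_card _ ?_
      rw [Finset.card_image_of_injOn fun s hs t ht e => hinj s t ((hPmem s).1 hs).1 ((hPmem t).1 ht).1
          (by have := ((hPmem s).1 hs).2; have := ((hPmem t).1 ht).2; omega) e, hPcard,
        ← Nat.card_eq_fintype_card, X.cover.card_bigG B]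
    obtain ⟨s, hs, e⟩ := Finset.mem_image.1 (himg.symm ▸ Finset.mem_univ a)
    exact ⟨s, ((hPmem s).1 hs).1, ((hPmem s).1 hs).2, e⟩
  refine ⟨fun a ha => ?_, fun l hl hlen hlA => ?_⟩
  · obtain ⟨s, hs, hc, e⟩ := hsurj ⟨a, ha⟩
    obtain ⟨h1, h2⟩ := hlist s hs
    exact ⟨_, by rwa [List.length_map, Finset.length_toList], by rw [h2, e], h1, fun x hx => by
      obtain ⟨b, -, rfl⟩ := List.mem_map.1 hx; exact b.2⟩
  · set toA : G → A := fun x => if h : x ∈ A then ⟨x, h⟩ else 1 with htoA
    have hval : ∀ x, x ∈ A → (toA x : G) = x := fun x h => by simp [htoA, h]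
    have hto : ∀ w : List G, (∀ x ∈ w, x ∈ A) → ComList T w →
        (w.map toA).toFinset ⊆ S ∧ (w.map toA).toFinset.card = w.length ∧
          ((∏ a ∈ (w.map toA).toFinset, a : A) : G) = w.prod := by
      intro w hwA hw
      have hn : (w.map toA).Nodup := hw.nodup.map_on fun x hx y hy e => by
        rw [← hval x (hwA x hx), ← hval y (hwA y hy), e]
      refine ⟨fun a ha => ?_, by rw [List.toFinset_card_of_nodup hn, List.length_map], ?_⟩
      · obtain ⟨x, hx, rfl⟩ := List.mem_map.1 (List.mem_toFinset.1 ha)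
        refine Finset.mem_filter.2 ⟨Finset.mem_univ _, ?_⟩
        rw [hval x (hwA x hx)]
        exact ((M.mem_iff x).2 (hw.mem x hx)).1
      · rw [List.prod_toFinset _ hn, List.map_id', Subgroup.val_list_prod, List.map_map]
        exact congrArg List.prod ((List.map_congr_left fun x hx => hval x (hwA x hx)).trans (List.map_id w))
    obtain ⟨hsS, hsc, hsp⟩ := hto l hlA hl
    set s := (l.map toA).toFinset
    obtain ⟨f, hfS, hfs⟩ := Finset.exists_mem_notMem_of_card_lt_card (show s.card < S.card by omega)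
    have hfl : (f : G) ∉ l := fun h => hfs (List.mem_toFinset.2 (List.mem_map.2 ⟨f, h, Subtype.ext (hval _ f.2)⟩))
    refine ⟨f, f.2, hST f hfS, hfl, fun l' hl'A hl' hl'2 hl3 e => ?_⟩
    obtain ⟨hs'S, hs'c, hs'p⟩ := hto l' hl'A hl'
    have he : (∏ a ∈ insert f s, a) = ∏ a ∈ (l'.map toA).toFinset, a := Subtype.ext (by
      rw [Finset.prod_insert hfs, Subgroup.coe_mul, hsp, hs'p, e])
    have := congrArg Finset.card (hinj _ _ (Finset.insert_subset hfS hsS) hs'S
      (by rw [Finset.card_insert_of_notMem hfs]; omega) he)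
    rw [Finset.card_insert_of_notMem hfs] at this
    omega

/-- The centralizer of a pair. -/
theorem pair_cent_std {x : G} (B : BigModule X.E K) (hx : x ∈ conjugatesOf d) (hxA : x ∈ bigG X.π K) (hne : d ≠ x) :
    ∀ g : G, Commute g (d * x) → g ∈ M.ψ.range := by
  have hd : d ∈ conjugatesOf d := mem_conjugatesOf_self
  have hdH := M.cent_mem (Commute.refl d)
  have hxd : Commute x d := bigG_comm hxA
  have hxH := M.cent_mem hxd
  have hdA := X.cover.d_mem_bigG B X.coe
  refine pair_cent (X.sq hd) (X.sq hx) (X.ne_one hd) (X.ne_one hx) hne hxd.symm (M.controlled hd hdH)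
    (M.controlled hx hxH) (fun g hg hc => ?_) (X.cover.ea_bigG B)
    (fun a ha => ea_comm (X.cover.ea_bigG B) ha (mul_mem hdA hxA)) fun B' hB' hidx => ?_
  · have hgd : g * d * g⁻¹ ∈ M.ψ '' FiThree.trans :=
      M.mem_T (X.conj_mem g hd) (mul_mem (mul_mem hg hdH) (inv_mem hg))
    have hgx : g * x * g⁻¹ ∈ M.ψ '' FiThree.trans :=
      M.mem_T (X.conj_mem g hx) (mul_mem (mul_mem hg hxH) (inv_mem hg))
    have mk : ∀ p q : G, p ∈ M.ψ '' FiThree.trans → q ∈ M.ψ '' FiThree.trans → p ≠ q → Commute p q →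
        ComList (M.ψ '' FiThree.trans) [p, q] := by
      intro p q hp hq hpq hc'
      refine ⟨by simpa using hpq, ?_, ?_⟩
      · intro z hz
        simp only [List.mem_cons, List.not_mem_nil, or_false] at hz
        rcases hz with rfl | rfl
        exacts [hp, hq]
      · intro z hz w hw
        simp only [List.mem_cons, List.not_mem_nil, or_false] at hz hw
        rcases hz with rfl | rfl <;> rcases hw with rfl | rfl
        exacts [Commute.refl _, hc', hc'.symm, Commute.refl _]
    have h1 := mk _ _ hgd hgx (fun e => hne (mul_left_cancel (mul_right_cancel e))) (commute_conj_iff.2 hxd.symm)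
    have h2 := mk _ _ (M.mem_T hd hdH) (M.mem_T hx hxH) hne hxd.symm
    have heq : [g * d * g⁻¹, g * x * g⁻¹].prod = [d, x].prod := by
      simp only [List.prod_cons, List.prod_nil, mul_one]
      rw [show g * d * g⁻¹ * (g * x * g⁻¹) = g * (d * x) * g⁻¹ by group, hc.eq, mul_inv_cancel_right]
    rcases Factor.same_or_disjoint M.set3 (M.noRel (by norm_num) (by norm_num)) h1 h2 (m := 2) (by simp) (by simp)
      (by norm_num) heq with h | ⟨h, -⟩
    · have := (h (g * d * g⁻¹)).1 (by simp)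
      simpa using this
    · omega
  · obtain ⟨p, hp⟩ := Set.nonempty_of_ncard_ne_zero (show (members X.E K).ncard ≠ 0 by rw [B.facts.2]; norm_num)
    obtain ⟨z, ⟨⟨u, huK, rfl⟩, hzc, -⟩, rfl⟩ := (X.module_facts B).surjOn hp
    have hu : X.π u ∈ members X.E K := X.im_eq u ▸ hp
    obtain ⟨l, hl7, hlc, hlp⟩ := X.cover.seven B hu
    obtain ⟨s, hs, hsB⟩ := exists_mem_of_odd_relation hB' hidx (l.map Subtype.val)
      (fun s hs => by
        obtain ⟨w, hw, rfl⟩ := List.mem_map.1 hs
        exact ⟨w, (hlc w hw).1, rfl⟩)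
      (by rw [List.length_map, hl7]; decide) (by rw [← Subgroup.val_list_prod, hlp, Subgroup.coe_one])
    obtain ⟨w, hw, rfl⟩ := List.mem_map.1 hs
    have hwD : (w : G) ∈ conjugatesOf d := by
      obtain ⟨c, hc⟩ := isConj_iff.1 (hlc w hw).2
      exact IsConj.trans (show IsConj d _ from hzc) (isConj_iff.2 ⟨(c : G), congrArg Subtype.val hc⟩)
    exact ⟨_, hsB, M.controlled hwD (M.cent_mem (X.mem_C.1 w.2))⟩

/-- The centralizer of a pair. -/
theorem pair_cent_all {w : G} (hw : IsPair (conjugatesOf d) M.ψ.range w) :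
    ∀ g : G, Commute g w → g ∈ M.ψ.range := by
  obtain ⟨p, q, hp, hpH, hq, hqH, hne, hpq, rfl⟩ := hw
  obtain ⟨K, B⟩ := X.exists_module
  obtain ⟨h, hh, hhp⟩ := M.transH hp hpH
  have hdq : Commute (h * q * h⁻¹) d := hhp ▸ commute_conj_iff.2 hpq.symm
  have hq' : h * q * h⁻¹ ∈ conjugatesOf d := X.conj_mem h hq
  have hne' : h * q * h⁻¹ ≠ d := fun e => hne (mul_left_cancel (mul_right_cancel (hhp.trans e.symm)))
  obtain ⟨c, hc, hcA⟩ := Local.exists_to_module X B hdq (X.sq hq') (X.ne_one hq') hne'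
  set k := c * h with hk
  have hkH : k ∈ M.ψ.range := mul_mem (M.cent_mem hc) hh
  have hkp : k * p * k⁻¹ = d := by
    rw [show k * p * k⁻¹ = c * (h * p * h⁻¹) * c⁻¹ by rw [hk]; group, hhp, hc.eq, mul_inv_cancel_right]
  have hkq : k * q * k⁻¹ ∈ bigG X.π K := by
    rwa [show k * q * k⁻¹ = c * (h * q * h⁻¹) * c⁻¹ by rw [hk]; group]
  intro g hg
  have hc' : Commute (k * g * k⁻¹) (d * (k * q * k⁻¹)) := by
    rw [← hkp, show k * p * k⁻¹ * (k * q * k⁻¹) = k * (p * q) * k⁻¹ by group]
    exact commute_conj_iff.2 hg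
  have := M.pair_cent_std B (X.conj_mem k hq) hkq
    (fun e => hne (mul_left_cancel (mul_right_cancel (hkp.trans e)))) (k * g * k⁻¹) hc'
  have := mul_mem (mul_mem (inv_mem hkH) this) hkH
  rwa [show k⁻¹ * (k * g * k⁻¹) * k = g by group] at this

theorem enclosed : Enclosed (conjugatesOf d) M.ψ.range d := by
  refine ⟨fun g _ h => X.conj_mem g h, fun _ h => X.sq h, fun _ h => X.ne_one h, mem_conjugatesOf_self,
    M.cent_mem (Commute.refl d), fun x hx => ?_, fun _ h h' => M.transH h h', fun _ h h' => M.cent_member h h',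
    fun _ h => M.pair_cent_all h, fun w hw hwD => ?_, ?_, fun t ht h2 h1 => ?_⟩
  · obtain ⟨g, hg⟩ := isConj_iff.1 (show IsConj d x from hx).symm
    exact ⟨g, hg⟩
  · obtain ⟨p, q, hp, hpH, hq, hqH, hne, hc, rfl⟩ := hw
    have hp' := M.mem_T hp hpH
    have hq' := M.mem_T hq hqH
    have hl : ComList (M.ψ '' FiThree.trans) [p, q] := by
      refine ⟨by simpa using hne, ?_, ?_⟩
      · intro z hz
        simp only [List.mem_cons, List.not_mem_nil, or_false] at hz
        rcases hz with rfl | rfl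
        exacts [hp', hq']
      · intro z hz w hw
        simp only [List.mem_cons, List.not_mem_nil, or_false] at hz hw
        rcases hz with rfl | rfl <;> rcases hw with rfl | rfl
        exacts [Commute.refl _, hc, hc.symm, Commute.refl _]
    refine Factor.length_unique M.set3 (M.noRel le_rfl (by norm_num)) (M.noRel (by norm_num) (by norm_num))
      (M.noRel (by norm_num) (by norm_num)) (l := [p * q]) ⟨by simp, ?_, by simp⟩ hl (by simp) (by simp) (by simp)
      (by simp)
    intro z hz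
    rw [List.mem_singleton.1 hz]
    exact M.mem_T hwD (mul_mem hpH hqH)
  · obtain ⟨g, hg, hgd⟩ := X.fused
    exact ⟨_, isConj_iff.2 ⟨g, rfl⟩, hgd, (X.mem_C.1 hg).symm⟩
  · by_cases htD : t ∈ conjugatesOf d
    · exact Or.inl htD
    obtain ⟨K, B⟩ := X.exists_module
    obtain ⟨k, hk, hkA⟩ := M.to_module B ht h2 h1 htD
    obtain ⟨hsur, hfour⟩ := M.module_lists B
    obtain ⟨l, hlen, hlp, hl, hlA⟩ := hsur _ hkA
    set t' := k * t * k⁻¹ with ht'
    have htt : t = k⁻¹ * t' * k := by rw [ht']; group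
    have hmem : ∀ x ∈ l, x ∈ conjugatesOf d ∧ x ∈ M.ψ.range := fun x hx => (M.mem_iff x).2 (hl.mem x hx)
    have hk' : k⁻¹ ∈ M.ψ.range := inv_mem hk
    have back : ∀ {w : G}, IsPair (conjugatesOf d) M.ψ.range w → IsPair (conjugatesOf d) M.ψ.range (k⁻¹ * w * k) :=
      fun {w} hw => by simpa using M.isPair_conj hk' hw
    match l, hl, hlen, hlp, hlA, hmem with
    | [], _, _, hlp, _, _ =>
      refine absurd ?_ h1
      rw [htt, ← hlp, List.prod_nil, mul_one, inv_mul_cancel]
    | [a], _, _, hlp, _, hmem =>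
      rw [List.prod_singleton] at hlp
      refine absurd ?_ htD
      rw [htt, ← hlp]
      simpa using X.conj_mem k⁻¹ (hmem a (by simp)).1
    | [a, b], hl, _, hlp, _, hmem =>
      refine Or.inr (Or.inl ?_)
      rw [htt, ← hlp]
      refine back ⟨a, b, (hmem a (by simp)).1, (hmem a (by simp)).2, (hmem b (by simp)).1, (hmem b (by simp)).2,
        by simpa using hl.nodup, hl.comm a (by simp) b (by simp), by simp⟩
    | [a, b, c], hl, _, hlp, hlA, hmem =>
      refine Or.inr (Or.inr ?_)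
      obtain ⟨f, hfA, hfT, hfl, hf2⟩ := hfour [a, b, c] hl (by simp) hlA
      obtain ⟨hfD, hfH⟩ := (M.mem_iff f).2 hfT
      have hn := hl.nodup
      simp only [List.nodup_cons, List.mem_cons, List.not_mem_nil, or_false, not_or, List.nodup_nil, and_true] at hn
      have hab := hl.comm a (by simp) b (by simp)
      have hac := hl.comm a (by simp) c (by simp)
      have hcm : ∀ x ∈ bigG X.π K, Commute x t' := fun x hx => ea_comm (X.cover.ea_bigG B) hx hkA
      refine ⟨k⁻¹ * a * k, k⁻¹ * f * k, by simpa using X.conj_mem k⁻¹ (hmem a (by simp)).1,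
        mul_mem (mul_mem hk' (hmem a (by simp)).2) hk, by simpa using X.conj_mem k⁻¹ hfD,
        mul_mem (mul_mem hk' hfH) hk, ?_, ?_, ?_, ?_⟩
      · rw [htt]; simpa using (commute_conj_iff (g := k⁻¹)).2 (hcm a (hlA a (by simp)))
      · rw [htt]; simpa using (commute_conj_iff (g := k⁻¹)).2 (hcm f hfA)
      · rw [htt, show k⁻¹ * a * k * (k⁻¹ * t' * k) = k⁻¹ * (a * t') * k by group]
        refine back ⟨b, c, (hmem b (by simp)).1, (hmem b (by simp)).2, (hmem c (by simp)).1, (hmem c (by simp)).2,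
          hn.2.1, hl.comm b (by simp) c (by simp), ?_⟩
        rw [← hlp]
        simp only [List.prod_cons, List.prod_nil, mul_one]
        rw [← mul_assoc, X.sq (hmem a (by simp)).1, one_mul]
      · rw [htt, show k⁻¹ * f * k * (k⁻¹ * t' * k) = k⁻¹ * (f * t') * k by group]
        intro hp
        have hp' := M.isPair_conj hk hp
        rw [show k * (k⁻¹ * (f * t') * k) * k⁻¹ = f * t' by group] at hp'
        obtain ⟨p, q, hpD, hpH, hqD, hqH, hpq, hpqc, e⟩ := hp'
        obtain ⟨l₂, hl₂len, hl₂p, hl₂, hl₂A⟩ := hsur (f * t') (mul_mem hfA hkA)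
        have hl' : ComList (M.ψ '' FiThree.trans) [p, q] := by
          refine ⟨by simpa using hpq, ?_, ?_⟩
          · intro z hz
            simp only [List.mem_cons, List.not_mem_nil, or_false] at hz
            rcases hz with rfl | rfl
            exacts [M.mem_T hpD hpH, M.mem_T hqD hqH]
          · intro z hz w hw
            simp only [List.mem_cons, List.not_mem_nil, or_false] at hz hw
            rcases hz with rfl | rfl <;> rcases hw with rfl | rfl
            exacts [Commute.refl _, hpqc, hpqc.symm, Commute.refl _]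
        have he : l₂.prod = [p, q].prod := by rw [hl₂p, e]; simp
        have h3' := M.noRel (k := 3) le_rfl (by norm_num)
        have h4' := M.noRel (k := 4) (by norm_num) (by norm_num)
        have h5' := M.noRel (k := 5) (by norm_num) (by norm_num)
        rcases (by omega : l₂.length = 0 ∨ l₂.length = 1 ∨ l₂.length = 2 ∨ l₂.length = 3) with hn2 | hn2 | hn2 | hn2
        · rw [List.length_eq_zero_iff.1 hn2, List.prod_nil] at he
          exact Factor.noRel_two M.set3 _ hl' rfl he.symm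
        · exact Factor.length_unique M.set3 h3' h4' h5' hl₂ hl' (by omega) (by simp [hn2]) (by simp) he
        · exact hf2 l₂ hl₂A hl₂ hn2 rfl (by rw [hlp, hl₂p])
        · exact Factor.length_unique M.set3 h3' h4' h5' hl' hl₂ (by simp) (by simp [hn2]) (by omega) he.symm
    | _ :: _ :: _ :: _ :: _, _, hlen, _, _, _ => simp only [List.length_cons] at hlen; omega

theorem range_top : M.ψ.range = ⊤ := M.enclosed.eq_top

end Emb

/-- The group is Fi23 and the conjugates of the involution are its transpositions. -/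
theorem Local.main (X : Local d Q) : ∃ e : Spor.Fi23 ≃* G, e '' FiThree.trans = conjugatesOf d := by
  obtain ⟨M⟩ := exists_emb X
  refine ⟨MulEquiv.ofBijective M.ψ ⟨M.inj, MonoidHom.range_eq_top.1 M.range_top⟩, ?_⟩
  ext x
  exact ⟨fun hx => ((M.mem_iff x).2 hx).1, fun hx => (M.mem_iff x).1 ⟨hx, M.range_top ▸ Subgroup.mem_top x⟩⟩

end CfsgLib.Recog.FiTrans23
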