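import Cfsg.Agent.Lib.Recog.FiTrans23.SearchCheck

/-!
A set of members of Fi22 which looks like the members commuting with a far transposition of Fi23 contains eight
members with the pattern of the diagram with arms of four, three and three nodes (owner: helper22).
-/

set_option autoImplicit false
set_option maxRecDepth 20000

namespace CfsgLib.Recog.FiTrans23

open Cfsg CfsgLib.ThreeTrans CfsgLib.Recog.FiM22 CfsgLib.Recog.FiM22.Tuple
open CfsgLib.ThreeTrans.CosetIndex (forallFrom forallFrom_elim)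

universe u

variable {Q : Type u} [Group Q] {E : Set Q}

/-- The pattern of a member and seven more. -/
def Pattern (a : Q) (t : List Q) : Prop :=
  ∀ i < 8, ∀ j < 8, Commute ((a :: t).getD i 1) ((a :: t).getD j 1) ↔ padj i j = false

/-- What is known of the members commuting with a far one. -/
structure Common (E S : Set Q) : Prop where
  sub : S ⊆ E
  nonempty : S.Nonempty
  closed : ∀ a ∈ S, ∀ b ∈ S, a * b * a⁻¹ ∈ S
  le : ∀ a ∈ S, (S ∩ nbrs E a).ncard ≤ 126
  seven : ∀ a ∈ S, ∃ t : List Q, t.length = 7 ∧ (∀ z ∈ t, z ∈ S ∩ nbrs E a) ∧ Pattern a t ∧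
    (gRun t prog t).Nodup

theorem gRun_length (t : List Q) : ∀ (l : List (ℕ × ℕ)) (v : List Q), (gRun t l v).length = v.length + l.length
  | [], _ => rfl
  | s :: l, v => by
    rw [gRun, gRun_length t l, List.length_append, List.length_singleton, List.length_cons]
    omega

theorem prog_length : prog.length = 119 := by decide +kernel

attribute [local irreducible] prog vals

theorem leaves_head : leaves.all (fun l => decide (l.1.head? = some ([], 0))) = true := by decide +kernel

theorem padj_zero : ∀ j < 8, padj 0 j = false ∧ padj j 0 = false := by decide +kernel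

theorem getD_cons_map (f : Item → Q) (a : Q) (l : List Item) (x : Item) (hx : f x = a) {i : ℕ} (hi : i < l.length + 1) :
    (a :: l.map f).getD i 1 = f (item (x :: l) i) := by
  rcases i with _ | i
  · simpa [item] using hx.symm
  · rw [List.getD_cons_succ, List.getD_eq_getElem _ _ (by rw [List.length_map]; omega), List.getElem_map]
    rw [item, List.getD_cons_succ, List.getD_eq_getElem _ _ (by omega)]

theorem conj_nbrs_mem (hD : IsThreeTranspositionGroup E) (g : Q) {a x : Q} (hx : x ∈ nbrs E a) :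
    g * x * g⁻¹ ∈ nbrs E (g * a * g⁻¹) :=
  ⟨hD.2.1 g x hx.1, fun e => hx.2.1 (mul_left_cancel (mul_right_cancel e)), commute_conj_iff.2 hx.2.2⟩

variable [Finite Q]

theorem ncard_list {l : List Q} (hn : l.Nodup) {s : Set Q} (h : ∀ x ∈ l, x ∈ s) : l.length ≤ s.ncard := by
  classical
  calc l.length = l.toFinset.card := (List.toFinset_card_of_nodup hn).symm
    _ = (↑l.toFinset : Set Q).ncard := (Set.ncard_coe_finset _).symm
    _ ≤ s.ncard := Set.ncard_le_ncard (fun x hx => h x (List.mem_toFinset.1 hx)) (Set.toFinite s)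

omit [Finite Q] in
theorem ncard_le_list {l : List Q} {s : Set Q} (h : ∀ x ∈ s, x ∈ l) : s.ncard ≤ l.length := by
  classical
  calc s.ncard ≤ (↑l.toFinset : Set Q).ncard :=
        Set.ncard_le_ncard (fun x hx => List.mem_toFinset.2 (h x hx)) (Finset.finite_toSet _)
    _ = l.toFinset.card := Set.ncard_coe_finset _
    _ ≤ l.length := l.toFinset_card_le

namespace Common

variable {S : Set Q} (C : Common E S)
include C

omit [Finite Q] in
theorem gVals_mem (hD : IsThreeTranspositionGroup E) {a : Q} {t : List Q} (hlen : t.length = 7)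
    (ht : ∀ z ∈ t, z ∈ S ∩ nbrs E a) : ∀ z ∈ gRun t prog t, z ∈ S ∩ nbrs E a := by
  refine gRun_forall t (fun c hc b hb => ⟨C.closed c (ht c hc).1 b hb.1, ?_⟩) prog t (by rw [hlen]; exact steps_checked) ht
  have hca : c * a * c⁻¹ = a := by rw [(ht c hc).2.2.2.symm.eq, mul_inv_cancel_right]
  exact hca ▸ conj_nbrs_mem hD c hb.2

theorem ncard_eq (hD : IsThreeTranspositionGroup E) {a : Q} (ha : a ∈ S) : (S ∩ nbrs E a).ncard = 126 := by
  refine le_antisymm (C.le a ha) ?_
  obtain ⟨t, hlen, ht, -, hn⟩ := C.seven a ha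
  have := ncard_list hn (C.gVals_mem hD hlen ht)
  rwa [gRun_length, hlen, prog_length] at this

theorem conj (hD : IsThreeTranspositionGroup E) (g : Q) : Common E ((fun x => g * x * g⁻¹) '' S) where
  sub := by rintro _ ⟨x, hx, rfl⟩; exact hD.2.1 g x (C.sub hx)
  nonempty := C.nonempty.image _
  closed := by
    rintro _ ⟨a, ha, rfl⟩ _ ⟨b, hb, rfl⟩
    exact ⟨a * b * a⁻¹, C.closed a ha b hb, by group⟩
  le := by
    rintro _ ⟨a, ha, rfl⟩
    have : (fun x => g * x * g⁻¹) '' S ∩ nbrs E (g * a * g⁻¹) ⊆ (fun x => g * x * g⁻¹) '' (S ∩ nbrs E a) := by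
      rintro _ ⟨⟨x, hx, rfl⟩, hn⟩
      refine ⟨x, ⟨hx, C.sub hx, fun e => hn.2.1 (by rw [e]), commute_conj_iff.1 hn.2.2⟩, rfl⟩
    have hinj : Function.Injective fun x : Q => g * x * g⁻¹ := fun x y e => mul_left_cancel (mul_right_cancel e)
    exact (Set.ncard_le_ncard this (Set.toFinite _)).trans
      ((Set.ncard_image_of_injective _ hinj).le.trans (C.le a ha))
  seven := by
    rintro _ ⟨a, ha, rfl⟩
    obtain ⟨t, hlen, ht, hp, hn⟩ := C.seven a ha
    let φ : Q →* Q := (MulAut.conj g).toMonoidHom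
    refine ⟨t.map φ, by rw [List.length_map, hlen], ?_, fun i hi j hj => ?_, ?_⟩
    · intro z hz
      obtain ⟨x, hx, rfl⟩ := List.mem_map.1 hz
      exact ⟨⟨x, (ht x hx).1, rfl⟩, conj_nbrs_mem hD g (ht x hx).2⟩
    · have e : ∀ k < 8, ((φ a) :: t.map φ).getD k 1 = φ ((a :: t).getD k 1) := fun k hk => by
        rw [← List.map_cons, List.getD_eq_getElem _ _ (by simp [hlen]; omega), List.getElem_map,
          List.getD_eq_getElem _ _ (by simp [hlen]; omega)]
      show Commute ((φ a :: t.map φ).getD i 1) ((φ a :: t.map φ).getD j 1) ↔ _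
      rw [e i hi, e j hj, ← hp i hi j hj]
      exact commute_conj_iff
    · rw [← map_gRun]
      exact hn.map (MulAut.conj g).injective

end Common

section numbered

variable {L pt : ℕ → Q} (N : Tuple.Numbered E L pt)
include N

theorem ipt_zero : ipt ([], 0) = 0 := by
  show trW [] (basePt 0) = 0
  exact base_checked

theorem commB_iff {i : Item} (hi : itemOK i = true) {c : ℕ} (hc : c < 3510) :
    commB i c = true ↔ Commute (pt (ipt i)) (pt c) := by
  rw [N.commute_item hi hc, commB, Nat.beq_eq]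

theorem commB_zero_iff {c : ℕ} (hc : c < 3510) : commB ([], 0) c = true ↔ Commute (pt 0) (pt c) := by
  rw [commB_iff N (show itemOK ([], 0) = true from rfl) hc, ipt_zero N]

theorem near_mem {c : ℕ} (hc : c < 3510) (h : nearB c = true) : pt c ∈ nbrs E (pt 0) := by
  simp only [nearB, Bool.and_eq_true, Bool.not_eq_true'] at h
  exact ⟨(N.mem _).2 ⟨c, hc, rfl⟩, fun e => Bool.eq_false_iff.1 h.2 (by
    rw [N.inj c hc 0 (by norm_num) e]; exact Nat.beq_refl 0), (commB_zero_iff N hc).1 h.1⟩

/-- Two far members have exactly 126 common neighbours, with a standard seven among them. -/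
theorem std_facts : ((nbrs E (pt 0) ∩ nbrs E (pt (ipt stdFar))).ncard ≤ 126 ∧ ¬ Commute (pt 0) (pt (ipt stdFar))) ∧
    ∃ t : List Q, t.length = 7 ∧ (∀ z ∈ t, z ∈ nbrs E (pt 0) ∩ nbrs E (pt (ipt stdFar))) ∧ Pattern (pt 0) t ∧
      (gRun t prog t).Nodup := by
  have h := std_checked
  simp only [stdOK, Bool.and_eq_true, List.all_eq_true, Bool.not_eq_true', List.mem_range] at h
  obtain ⟨⟨⟨hfar, hnc⟩, hlen, hitems⟩, ⟨hd, hvals⟩, hpat, hvlen, hcov⟩ := h
  have hlen' : stdSeven.length = 7 := Nat.eq_of_beq_eq_true hlen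
  obtain ⟨hlt, hmap⟩ := vals_spec N stdSeven hitems (steps := prog) (by rw [hlen']; exact steps_checked)
  have hb := (N.ipt_spec hfar).1
  have hin : ∀ c ∈ vals stdSeven prog, pt c ∈ nbrs E (pt 0) ∩ nbrs E (pt (ipt stdFar)) := fun c hc => by
    have h := hvals c hc
    obtain ⟨⟨h1, h2⟩, h3⟩ := h
    have hm := near_mem N (hlt c hc) h1
    exact ⟨hm, hm.1, fun e => Bool.eq_false_iff.1 h3 (by rw [N.inj c (hlt c hc) _ hb e]; exact Nat.beq_refl _),
      (commB_iff N hfar (hlt c hc)).1 h2⟩
  refine ⟨⟨?_, fun hc => Bool.eq_false_iff.1 hnc ((commB_zero_iff N hb).2 hc)⟩,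
    stdSeven.map (fun i => pt (ipt i)), by rw [List.length_map, hlen'], fun z hz => ?_, fun i hi j hj => ?_, ?_⟩
  · refine (ncard_le_list (l := (vals stdSeven prog).map pt) fun x hx => ?_).trans
      (by rw [List.length_map, Nat.eq_of_beq_eq_true hvlen])
    obtain ⟨c, hc, rfl⟩ := (N.mem x).1 hx.1.1
    have hc' := forallFrom_elim hcov (i := c) (Nat.zero_le _) (by omega)
    have h1 := (commB_zero_iff N hc).2 hx.1.2.2
    have h2 := (commB_iff N hfar hc).2 hx.2.2.2
    have h3 : Nat.beq c 0 = false := Bool.eq_false_iff.2 fun e => hx.1.2.1 (by rw [Nat.eq_of_beq_eq_true e])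
    have h4 : Nat.beq c (ipt stdFar) = false := Bool.eq_false_iff.2 fun e => hx.2.2.1 (by rw [Nat.eq_of_beq_eq_true e])
    rw [h1, h2, h3, h4] at hc'
    exact List.mem_map.2 ⟨c, List.contains_iff_mem.1 hc', rfl⟩
  · obtain ⟨i, hi, rfl⟩ := List.mem_map.1 hz
    refine hin _ ?_
    have hw := gRun_prefix (G := Q) (stdSeven.map fun i => pt (ipt i)) prog (stdSeven.map fun i => pt (ipt i))
    obtain ⟨w, hw⟩ := hw
    have hm : pt (ipt i) ∈ (vals stdSeven prog).map pt := by
      rw [hmap, hw]; exact List.mem_append_left _ (List.mem_map.2 ⟨i, hi, rfl⟩)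
    obtain ⟨c, hc, e⟩ := List.mem_map.1 hm
    rwa [← N.inj c (hlt c hc) _ (N.ipt_spec (hitems i hi)).1 e]
  · rw [getD_cons_map (fun i => pt (ipt i)) (pt 0) stdSeven ([], 0) (by rw [ipt_zero N]) (by omega),
      getD_cons_map (fun i => pt (ipt i)) (pt 0) stdSeven ([], 0) (by rw [ipt_zero N]) (by omega)]
    have hok : ∀ k < 8, itemOK (item (([], 0) :: stdSeven) k) = true := fun k hk => by
      rcases k with _ | k
      · rfl
      · rw [item, List.getD_cons_succ, List.getD_eq_getElem _ _ (by omega)]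
        exact hitems _ (List.getElem_mem _)
    rw [← commB_iff N (hok i hi) (N.ipt_spec (hok j hj)).1]
    have hnear : ∀ k < 7, commB ([], 0) (ipt (item stdSeven k)) = true := fun k hk => by
      have hs : item stdSeven k ∈ stdSeven := by
        rw [item, List.getD_eq_getElem _ _ (by omega)]; exact List.getElem_mem _
      obtain ⟨w, hw⟩ := gRun_prefix (G := Q) (stdSeven.map fun i => pt (ipt i)) prog (stdSeven.map fun i => pt (ipt i))
      have hm : pt (ipt (item stdSeven k)) ∈ (vals stdSeven prog).map pt := by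
        rw [hmap, hw]; exact List.mem_append_left _ (List.mem_map.2 ⟨_, hs, rfl⟩)
      obtain ⟨c, hc, e⟩ := List.mem_map.1 hm
      have hnb := (hin c hc).1.2.2
      rw [e] at hnb
      exact (commB_zero_iff N (N.ipt_spec (hitems _ hs)).1).2 hnb
    rcases i with _ | i <;> rcases j with _ | j
    · simp only [(padj_zero 0 (by norm_num)).1, iff_true]
      exact (commB_iff N rfl (N.ipt_spec (show itemOK ([], 0) = true from rfl)).1).2 (Commute.refl _)
    · simp only [(padj_zero _ hj).1, iff_true]
      exact hnear j (by omega)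
    · simp only [(padj_zero _ hi).2, iff_true]
      rw [commB_iff N (hok _ hi) (N.ipt_spec (hok 0 (by norm_num))).1]
      exact ((commB_iff N (show itemOK ([], 0) = true from rfl) (N.ipt_spec (hok _ hi)).1).1
        (hnear i (by omega))).symm
    · have h := hpat i (by omega) j (by omega)
      rw [beq_iff_eq] at h
      show commB (item stdSeven i) (ipt (item stdSeven j)) = true ↔ _
      rw [h]
      cases padj (i + 1) (j + 1) <;> simp
  · rw [← hmap]
    exact (inj_list N _ hlt).2 ((distinctB_iff _).1 hd)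

/-- Around a member and a set of 126. -/
theorem rep_case (hD : IsThreeTranspositionGroup E) {S : Set Q} (C : Common E S) {R : Rep} (hR : R ∈ reps) (h0 : pt 0 ∈ S)
    (hgens : ∀ g ∈ R.forest.gens, pt (ipt g) ∈ S) :
    ∃ u : ℕ → Q, (∀ i < 8, u i ∈ S) ∧ ∀ i < 8, ∀ j < 8, Commute (u i) (u j) ↔ adjT i j = false := by
  obtain ⟨hok, hroot⟩ := reps_checked R hR
  simp only [repOK, Bool.and_eq_true, List.all_eq_true] at hok
  obtain ⟨⟨hlen, hitems, hritems⟩, ⟨hent, hcov⟩, ⟨hd, hvlen, hnear⟩, hcnt, -⟩ := hok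
  have hlen' : R.forest.gens.length = 7 := Nat.eq_of_beq_eq_true hlen
  obtain ⟨hlt, hmap⟩ := vals_spec N R.forest.gens hitems (steps := prog) (by rw [hlen']; exact steps_checked)
  have hstep : ∀ l : List Q, (∀ z ∈ l, z ∈ S) → ∀ a ∈ l, ∀ b, b ∈ S → a * b * a⁻¹ ∈ S :=
    fun l hl a ha b hb => C.closed a (hl a ha) b hb
  have hgS : ∀ z ∈ R.forest.gens.map fun i => pt (ipt i), z ∈ S := fun z hz => by
    obtain ⟨i, hi, rfl⟩ := List.mem_map.1 hz
    exact hgens i hi
  have hV : ∀ z ∈ (vals R.forest.gens prog).map pt, z ∈ S ∩ nbrs E (pt 0) := fun z hz => by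
    obtain ⟨c, hc, rfl⟩ := List.mem_map.1 hz
    refine ⟨?_, near_mem N (hlt c hc) (hnear c hc)⟩
    refine gRun_forall (P := fun z => z ∈ S) _ (hstep _ hgS) prog _ ?_ hgS _ (hmap ▸ hz)
    simp only [List.length_map, hlen']
    exact steps_checked
  have hV' : ∀ z ∈ S ∩ nbrs E (pt 0), z ∈ (vals R.forest.gens prog).map pt := by
    classical
    have hn : ((vals R.forest.gens prog).map pt).Nodup := (inj_list N _ hlt).2 ((distinctB_iff _).1 hd)
    have he : (↑((vals R.forest.gens prog).map pt).toFinset : Set Q) = S ∩ nbrs E (pt 0) := by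
      refine Set.eq_of_subset_of_ncard_le (fun x hx => hV x (List.mem_toFinset.1 hx)) ?_ (Set.toFinite _)
      rw [Set.ncard_coe_finset, List.toFinset_card_of_nodup hn, List.length_map, Nat.eq_of_beq_eq_true hvlen]
      exact C.le _ h0
    intro z hz
    rw [← he] at hz
    exact List.mem_toFinset.1 hz
  -- a member outside
  set g₀ := item R.forest.gens 0 with hg₀
  have hg₀m : g₀ ∈ R.forest.gens := by
    rw [hg₀, item, List.getD_eq_getElem _ _ (by omega)]; exact List.getElem_mem _
  have hex : ∃ c < 3510, rcand R.skip c = true ∧ pt c ∈ S := by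
    by_contra hno
    push Not at hno
    have hsub : ∀ x ∈ S ∩ nbrs E (pt (ipt g₀)), x ∈ ((known R).filter fun c => commB g₀ c).map pt := by
      rintro x ⟨hxS, hx⟩
      obtain ⟨c, hc, rfl⟩ := (N.mem x).1 hx.1
      refine List.mem_map.2 ⟨c, List.mem_filter.2 ⟨?_, (commB_iff N (hitems _ hg₀m) hc).2 hx.2.2⟩, rfl⟩
      simp only [known, List.mem_cons, List.mem_append]
      by_cases h0c : commB ([], 0) c = true
      · by_cases e : c = 0
        · exact Or.inl e
        · refine Or.inr (Or.inl ?_)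
          have := hV' (pt c) ⟨hxS, hx.1, fun e' => e (N.inj c hc 0 (by norm_num) e'), (commB_zero_iff N hc).1 h0c⟩
          obtain ⟨c', hc', e'⟩ := List.mem_map.1 this
          rwa [← N.inj c' (hlt c' hc') c hc e']
      · refine Or.inr (Or.inr ?_)
        by_contra hs
        refine hno c hc ?_ hxS
        simp only [rcand, Bool.not_eq_true] at h0c ⊢
        rw [h0c, Bool.not_false, Bool.true_and, List.all_eq_true]
        intro s hs'
        rw [Bool.not_eq_true', Bool.eq_false_iff]
        exact fun e => hs (Nat.eq_of_beq_eq_true e ▸ hs')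
    have h1 := ncard_le_list hsub
    rw [C.ncard_eq hD (hgens _ hg₀m), List.length_map] at h1
    have h2 : ((known R).filter fun c => commB g₀ c).length < 126 := by simpa using hcnt
    omega
  obtain ⟨c, hc, hcc, hcS⟩ := hex
  obtain ⟨r, hr, hrS⟩ := forest_root N hritems hitems hent hcov (P := fun c => pt c ∈ S)
    (fun s hs c hc hcS => by
      show pt _ ∈ S
      rw [(N.conj_item (hitems s hs) hc).2]
      exact C.closed _ (hgens s hs) _ hcS) hc hcc hcS
  obtain ⟨n, hn, hnr⟩ := List.getElem_of_mem hr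
  have hcert := List.all_eq_true.1 hroot n (List.mem_range.2 hn)
  rw [rootOK, item, List.getD_eq_getElem _ _ hn, hnr] at hcert
  set G9 := R.forest.gens ++ [([], 0), r] with hG9
  have hG9ok : ∀ i ∈ G9, itemOK i = true := fun i hi => by
    simp only [hG9, List.mem_append, List.mem_cons, List.not_mem_nil, or_false] at hi
    rcases hi with h | rfl | rfl
    exacts [hitems i h, rfl, hritems _ hr]
  have hG9S : ∀ z ∈ G9.map fun i => pt (ipt i), z ∈ S := fun z hz => by
    obtain ⟨i, hi, rfl⟩ := List.mem_map.1 hz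
    simp only [hG9, List.mem_append, List.mem_cons, List.not_mem_nil, or_false] at hi
    rcases hi with h | rfl | rfl
    exacts [hgens i h, by rw [ipt_zero N]; exact h0, hrS]
  have hG9len : G9.length = 9 := by simp [hG9, hlen']
  have hvals : ∀ steps, stepsOK 9 steps 9 = true →
      ∀ c ∈ vals G9 steps, c < 3510 ∧ pt c ∈ S := fun steps hs c hc => by
    obtain ⟨h1, h2⟩ := vals_spec N G9 hG9ok (steps := steps) (by rw [hG9len]; exact hs)
    refine ⟨h1 c hc, gRun_forall (P := fun z => z ∈ S) _ (hstep _ hG9S) steps _ ?_ hG9S _ (h2 ▸ List.mem_map.2 ⟨c, hc, rfl⟩)⟩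
    simp only [List.length_map, hG9len]
    exact hs
  generalize R.certs.getD n (.good [] []) = cert at hcert
  cases cert with
  | blow steps k ids =>
    exfalso
    simp only [certOK, Bool.and_eq_true, List.all_eq_true, Bool.not_eq_true'] at hcert
    obtain ⟨hs, hk, hidl, hbd, hdis, hall⟩ := hcert
    have hkl : k < G9.length := by rw [hG9len]; simpa using hk
    have hgm : item G9 k ∈ G9 := by rw [item, List.getD_eq_getElem _ _ hkl]; exact List.getElem_mem _
    set W := ids.map fun i => (vals G9 steps).getD i 0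
    have hW : ∀ c ∈ W, c < 3510 ∧ pt c ∈ S := fun c hc => by
      obtain ⟨i, hi, rfl⟩ := List.mem_map.1 hc
      have : i < (vals G9 steps).length := by simpa using hbd i hi
      rw [List.getD_eq_getElem _ _ this]
      exact hvals steps hs _ (List.getElem_mem _)
    have hle : (W.map pt).length ≤ (S ∩ nbrs E (pt (ipt (item G9 k)))).ncard := by
      refine ncard_list ((inj_list N W fun c hc => (hW c hc).1).2 ((distinctB_iff _).1 hdis)) fun x hx => ?_
      obtain ⟨c, hc, rfl⟩ := List.mem_map.1 hx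
      have h := hall c hc
      exact ⟨(hW c hc).2, (N.mem _).2 ⟨c, (hW c hc).1, rfl⟩, fun e => Bool.eq_false_iff.1 h.2 (by
        rw [N.inj c (hW c hc).1 _ (N.ipt_spec (hG9ok _ hgm)).1 e]; exact Nat.beq_refl _),
        (commB_iff N (hG9ok _ hgm) (hW c hc).1).1 h.1⟩
    have := hle.trans (C.le _ (hG9S _ (List.mem_map.2 ⟨_, hgm, rfl⟩)))
    simp only [W, List.length_map, Nat.eq_of_beq_eq_true hidl] at this
    omega
  | good steps eight =>
    simp only [certOK, Bool.and_eq_true, List.all_eq_true, List.mem_range] at hcert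
    obtain ⟨hs, hel, hev, hpat⟩ := hcert
    have hel' : eight.length = 8 := Nat.eq_of_beq_eq_true hel
    have hmem : ∀ i < 8, itemOK (eight.getD i (0, ([], 0))).2 = true ∧
        pt (ipt (eight.getD i (0, ([], 0))).2) ∈ S := fun i hi => by
      have hm : eight.getD i (0, ([], 0)) ∈ eight := by
        rw [List.getD_eq_getElem _ _ (by omega)]; exact List.getElem_mem _
      obtain ⟨h1, h2, h3⟩ := hev _ hm
      have h2' : (eight.getD i (0, ([], 0))).1 < (vals G9 steps).length := by simpa using h2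
      refine ⟨h1, ?_⟩
      rw [Nat.eq_of_beq_eq_true h3, List.getD_eq_getElem _ _ h2']
      exact (hvals steps hs _ (List.getElem_mem _)).2
    refine ⟨fun i => pt (ipt (eight.getD i (0, ([], 0))).2), fun i hi => (hmem i hi).2, fun i hi j hj => ?_⟩
    rw [← commB_iff N (hmem i hi).1 (N.ipt_spec (hmem j hj).1).1]
    have h := hpat i hi j hj
    rw [beq_iff_eq] at h
    rw [h]
    cases adjT i j <;> simp

/-- The search from a member at the first place. -/
theorem from_zero (hD : IsThreeTranspositionGroup E) {S : Set Q} (C : Common E S) (h0 : pt 0 ∈ S) :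
    ∃ u : ℕ → Q, (∀ i < 8, u i ∈ S) ∧ ∀ i < 8, ∀ j < 8, Commute (u i) (u j) ↔ adjT i j = false := by
  obtain ⟨t, hlen, ht, hpat, hnd⟩ := C.seven _ h0
  set f : ℕ → Q := fun i => (pt 0 :: t).getD i 1 with hf
  have hfn : (pt 0 :: t).Nodup := by
    refine List.nodup_cons.2 ⟨fun h => (ht _ h).2.2.1 rfl, ?_⟩
    obtain ⟨w, hw⟩ := gRun_prefix t prog t
    exact (List.nodup_append.1 (hw ▸ hnd)).1
  have hfS : ∀ i < 8, f i ∈ S := fun i hi => by
    have hm : (pt 0 :: t).getD i 1 ∈ pt 0 :: t := by
      rw [List.getD_eq_getElem _ _ (by simp [hlen]; omega)]; exact List.getElem_mem _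
    rcases List.mem_cons.1 hm with e | h
    · show (pt 0 :: t).getD i 1 ∈ S
      rw [e]; exact h0
    · exact (ht _ h).1
  have hfinj : ∀ i < 8, ∀ j < 8, f i = f j → i = j := fun i hi j hj e => by
    simp only [hf] at e
    rw [List.getD_eq_getElem _ _ (by simp [hlen]; omega), List.getD_eq_getElem _ _ (by simp [hlen]; omega)] at e
    exact (hfn.getElem_inj_iff).1 e
  have main : ∀ k, 1 ≤ k → k ≤ 8 → ∃ pre : List Item, pre.length = k ∧
      (∃ g : Q, ∀ j < k, g * f j * g⁻¹ = pt (ipt (item pre j))) ∧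
      (pre ∈ nodes.map (·.pre) ∨ pre ∈ leaves.map (·.1)) := by
    intro k h1
    induction k, h1 using Nat.le_induction with
    | base =>
      intro _
      refine ⟨[([], 0)], rfl, ⟨1, fun j hj => ?_⟩, Or.inl (start_checked ▸ by simp [nodes])⟩
      obtain rfl : j = 0 := by omega
      simp [hf, item, ipt_zero N]
    | succ k hk ih =>
      intro hk8
      obtain ⟨pre, hl, ⟨g, hg⟩, hin⟩ := ih (by omega)
      rcases hin with hin | hin
      · obtain ⟨T, hT, rfl⟩ := List.mem_map.1 hin
        have hok := List.all_eq_true.1 nodes_checked T hT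
        simp only [nodeOK', headOK, Bool.and_eq_true, List.all_eq_true] at hok
        obtain ⟨⟨hpre, hroots, hgens, hfix⟩, hent, hcov⟩ := hok
        have hitem : ∀ j < k, item T.pre j ∈ T.pre := fun j hj => by
          rw [item, List.getD_eq_getElem _ _ (by omega)]; exact List.getElem_mem _
        obtain ⟨c, hc, hce⟩ := (N.mem _).1 (hD.2.1 g _ (C.sub (hfS k (by omega))))
        have hcand : pcand T.pre c = true := by
          simp only [pcand, List.all_eq_true, List.mem_range, Bool.and_eq_true, Bool.not_eq_true', beq_iff_eq, hl]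
          intro j hj
          have e := commB_iff N (hpre _ (hitem j hj)) hc
          rw [← hg j hj, ← hce, commute_conj_iff, hf] at e
          simp only at e
          rw [hpat j (by omega) k (by omega)] at e
          refine ⟨?_, Bool.eq_false_iff.2 fun e' => ?_⟩
          · cases h : padj j k
            · rw [h] at e; exact e.2 rfl
            · rw [h] at e
              exact Bool.eq_false_iff.2 fun h' => Bool.noConfusion (e.1 h')
          · have : f j = f k := by
              have h2 := hg j hj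
              rw [← Nat.eq_of_beq_eq_true e', ← hce] at h2
              exact mul_left_cancel (mul_right_cancel h2)
            exact absurd (hfinj j (by omega) k (by omega) this) (by omega)
        obtain ⟨r, hr, g', hg', hgr⟩ := forest_root N hroots hgens hent hcov
          (P := fun c => ∃ g : Q, (∀ j < k, g * f j * g⁻¹ = pt (ipt (item T.pre j))) ∧ g * f k * g⁻¹ = pt c)
          (fun s hs c hc ⟨g, hg, hgc⟩ => by
            refine ⟨pt (ipt s) * g, fun j hj => ?_, ?_⟩
            · have hcm := (N.commute_item (hgens s hs) (N.ipt_spec (hpre _ (hitem j hj))).1).2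
                (Nat.eq_of_beq_eq_true (hfix s hs _ (hitem j hj)))
              calc pt (ipt s) * g * f j * (pt (ipt s) * g)⁻¹
                  = pt (ipt s) * (g * f j * g⁻¹) * (pt (ipt s))⁻¹ := by group
                _ = _ := by rw [hg j hj, hcm.eq, mul_inv_cancel_right]
            · rw [(N.conj_item (hgens s hs) hc).2, ← hgc]; group) hc hcand ⟨g, hg, hce⟩
        have htree := List.all_eq_true.1 tree_checked T hT
        simp only [Bool.and_eq_true, List.all_eq_true] at htree
        refine ⟨T.pre ++ [r], by simp [hl], ⟨g', fun j hj => ?_⟩, ?_⟩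
        · rcases Nat.lt_succ_iff_lt_or_eq.1 hj with hj | rfl
          · rw [item, List.getD_append _ _ _ _ (by omega), ← item]; exact hg' j hj
          · rw [item, List.getD_append_right _ _ _ _ (by omega), hl, Nat.sub_self]
            exact hgr
        · simpa using htree.2 r hr
      · obtain ⟨l, hl', rfl⟩ := List.mem_map.1 hin
        have := List.all_eq_true.1 leaves_checked l hl'
        simp only [leafOK', Bool.and_eq_true] at this
        have := Nat.eq_of_beq_eq_true this.1.1
        omega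
  obtain ⟨pre, hlen8, ⟨g, hg⟩, hin⟩ := main 8 (by norm_num) le_rfl
  have hin' : pre ∈ leaves.map (·.1) := by
    refine hin.resolve_left fun h => ?_
    obtain ⟨T, hT, rfl⟩ := List.mem_map.1 h
    have h' := List.all_eq_true.1 tree_checked T hT
    simp only [Bool.and_eq_true] at h'
    simp [hlen8] at h'
  obtain ⟨⟨pre', kind⟩, hl, rfl⟩ := List.mem_map.1 hin'
  have hok := List.all_eq_true.1 leaves_checked _ hl
  have hhd : pre'.head? = some ([], 0) := by simpa using List.all_eq_true.1 leaves_head _ hl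
  obtain ⟨tl, rfl⟩ : ∃ tl, pre' = ([], 0) :: tl := by
    cases pre' with
    | nil => simp at hhd
    | cons x tl => exact ⟨tl, by simp only [List.head?_cons, Option.some.injEq] at hhd; rw [hhd]⟩
  simp only [List.length_cons] at hlen8
  set φ : Q →* Q := (MulAut.conj g).toMonoidHom
  have htl : tl.map (fun i => pt (ipt i)) = t.map φ := by
    refine List.ext_getElem (by simp [hlen]; omega) fun n h1 h2 => ?_
    have hn : n < 7 := by simpa [hlen] using h2
    rw [List.getElem_map, List.getElem_map]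
    have := hg (n + 1) (by omega)
    simp only [hf, item, List.getD_cons_succ] at this
    rw [List.getD_eq_getElem _ _ (by omega), List.getD_eq_getElem _ _ (by omega)] at this
    exact this.symm
  set S' := (fun x => g * x * g⁻¹) '' S
  have C' : Common E S' := C.conj hD g
  have h0' : pt 0 ∈ S' := ⟨f 0, hfS 0 (by norm_num), by
    have := hg 0 (by norm_num)
    simpa [item, ipt_zero N] using this⟩
  simp only [leafOK', Bool.and_eq_true, List.all_eq_true, List.tail_cons] at hok
  obtain ⟨⟨-, hitems⟩, hkind⟩ := hok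
  have hitl : ∀ i ∈ tl, itemOK i = true := fun i hi => hitems i (List.mem_cons_of_mem _ hi)
  obtain ⟨hlt, hmap⟩ := vals_spec N tl hitl (steps := prog) (by
    rw [show tl.length = 7 by omega]; exact steps_checked)
  rw [htl, ← map_gRun] at hmap
  cases kind with
  | none =>
    exfalso
    simp only [Bool.not_eq_true'] at hkind
    have hnd' : ((vals tl prog).map pt).Nodup := by
      rw [hmap]; exact hnd.map (MulAut.conj g).injective
    rw [(distinctB_iff _).2 ((inj_list N _ hlt).1 hnd')] at hkind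
    exact Bool.noConfusion hkind
  | some k =>
    simp only [Bool.and_eq_true, List.all_eq_true] at hkind
    have hk : k < 3 := by simpa using hkind.1
    have hR : reps.getD k rep0 ∈ reps := by
      rw [List.getD_eq_getElem _ _ (by simpa [reps] using hk)]; exact List.getElem_mem _
    obtain ⟨u, hu, hup⟩ := rep_case N hD C' hR h0' fun i hi => by
      have hm := List.contains_iff_mem.1 (hkind.2 i hi)
      have hm' : pt (ipt i) ∈ (gRun t prog t).map φ := by rw [← hmap]; exact List.mem_map.2 ⟨_, hm, rfl⟩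
      obtain ⟨z, hz, e⟩ := List.mem_map.1 hm'
      exact ⟨z, (C.gVals_mem hD hlen ht z hz).1, e⟩
    refine ⟨fun i => g⁻¹ * u i * g, fun i hi => ?_, fun i hi j hj => ?_⟩
    · obtain ⟨x, hx, e⟩ := hu i hi
      simpa only [← e, show g⁻¹ * (g * x * g⁻¹) * g = x by group] using hx
    · rw [← hup i hi j hj]
      simpa using (commute_conj_iff (g := g⁻¹) (a := u i) (b := u j))

end numbered

/-- Two far members have exactly 126 common neighbours, with a standard seven among them. -/
theorem far_facts (hD : IsThreeTranspositionGroup E) (hprim : IsPrimitiveUnderConj E) (h22 : IsOfTypeM22 Q E)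
    {x y : Q} (hx : x ∈ E) (hy : y ∈ E) (hxy : ¬ Commute x y) :
    (nbrs E x ∩ nbrs E y).ncard ≤ 126 ∧ ∃ t : List Q, t.length = 7 ∧ (∀ z ∈ t, z ∈ nbrs E x ∩ nbrs E y) ∧
      Pattern x t ∧ (gRun t prog t).Nodup := by
  obtain ⟨a, ⟨B⟩⟩ := exists_base hD hprim h22
  obtain ⟨b, lab, pt, -, N, h0⟩ := exists_numbered B (card_class hD hprim h22)
  obtain ⟨⟨hle, hnc⟩, t, hlen, ht, hpat, hnd⟩ := std_facts N
  have hfar : itemOK stdFar = true := by decide +kernel
  have ha : pt 0 ∈ E := (N.mem _).2 ⟨0, by norm_num, rfl⟩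
  have hb : pt (ipt stdFar) ∈ E := (N.mem _).2 ⟨_, (N.ipt_spec hfar).1, rfl⟩
  obtain ⟨g₁, hg₁⟩ := hprim.1 _ ha x hx
  obtain ⟨g₂, hg₂, hg₂y⟩ := B.setting.noncommute_transitive hx (hD.2.1 g₁ _ hb)
    (fun hc => hnc (by rw [← hg₁] at hc; exact commute_conj_iff.1 hc)) hy hxy
  set g := g₂ * g₁
  have hgx : g * pt 0 * g⁻¹ = x := by
    rw [show g₂ * g₁ * pt 0 * (g₂ * g₁)⁻¹ = g₂ * (g₁ * pt 0 * g₁⁻¹) * g₂⁻¹ by group, hg₁, hg₂.eq, mul_inv_cancel_right]
  have hgy : g * pt (ipt stdFar) * g⁻¹ = y := by
    rw [show g₂ * g₁ * pt (ipt stdFar) * (g₂ * g₁)⁻¹ = g₂ * (g₁ * pt (ipt stdFar) * g₁⁻¹) * g₂⁻¹ by group, hg₂y]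
  have hinj : Function.Injective fun z : Q => g * z * g⁻¹ := fun u v e => mul_left_cancel (mul_right_cancel e)
  refine ⟨?_, t.map (MulAut.conj g).toMonoidHom, by rw [List.length_map, hlen], fun z hz => ?_, fun i hi j hj => ?_, ?_⟩
  · have : nbrs E x ∩ nbrs E y ⊆ (fun z => g * z * g⁻¹) '' (nbrs E (pt 0) ∩ nbrs E (pt (ipt stdFar))) := by
      rintro z ⟨hzx, hzy⟩
      refine ⟨g⁻¹ * z * g, ⟨?_, ?_⟩, by group⟩
      · have := conj_nbrs_mem hD g⁻¹ hzx
        rwa [← hgx, show g⁻¹ * (g * pt 0 * g⁻¹) * g⁻¹⁻¹ = pt 0 by group, inv_inv] at this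
      · have := conj_nbrs_mem hD g⁻¹ hzy
        rwa [← hgy, show g⁻¹ * (g * pt (ipt stdFar) * g⁻¹) * g⁻¹⁻¹ = pt (ipt stdFar) by group, inv_inv] at this
    exact (Set.ncard_le_ncard this (Set.toFinite _)).trans ((Set.ncard_image_of_injective _ hinj).le.trans hle)
  · obtain ⟨w, hw, rfl⟩ := List.mem_map.1 hz
    exact ⟨hgx ▸ conj_nbrs_mem hD g (ht w hw).1, hgy ▸ conj_nbrs_mem hD g (ht w hw).2⟩
  · have e : ∀ k < 8, (x :: t.map (MulAut.conj g).toMonoidHom).getD k 1 =
        g * (pt 0 :: t).getD k 1 * g⁻¹ := fun k hk => by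
      rcases k with _ | k
      · simpa using hgx.symm
      · rw [List.getD_cons_succ, List.getD_cons_succ, List.getD_eq_getElem _ _ (by simp [hlen]; omega),
          List.getElem_map, List.getD_eq_getElem _ _ (by omega)]
        rfl
    rw [e i hi, e j hj, ← hpat i hi j hj]
    exact commute_conj_iff
  · rw [← map_gRun]
    exact hnd.map (MulAut.conj g).injective

/-- Eight members with the pattern of the diagram. -/
theorem Common.exists_tuple {S : Set Q} (C : Common E S) (hD : IsThreeTranspositionGroup E) (hprim : IsPrimitiveUnderConj E)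
    (h22 : IsOfTypeM22 Q E) :
    ∃ u : ℕ → Q, (∀ i < 8, u i ∈ S) ∧ ∀ i < 8, ∀ j < 8, Commute (u i) (u j) ↔ adjT i j = false := by
  obtain ⟨a, ⟨B⟩⟩ := exists_base hD hprim h22
  obtain ⟨b, lab, pt, -, N, h0⟩ := exists_numbered B (card_class hD hprim h22)
  obtain ⟨s, hs⟩ := C.nonempty
  obtain ⟨g, hg⟩ := hprim.1 s (C.sub hs) _ ((N.mem _).2 ⟨0, by norm_num, rfl⟩)
  obtain ⟨u, hu, hup⟩ := from_zero N hD (C.conj hD g) ⟨s, hs, hg⟩
  refine ⟨fun i => g⁻¹ * u i * g, fun i hi => ?_, fun i hi j hj => ?_⟩
  · obtain ⟨x, hx, e⟩ := hu i hi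
    simpa only [← e, show g⁻¹ * (g * x * g⁻¹) * g = x by group] using hx
  · rw [← hup i hi j hj]
    simpa using (commute_conj_iff (g := g⁻¹) (a := u i) (b := u j))

end CfsgLib.Recog.FiTrans23
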