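import Cfsg.Agent.Lib.Recog.FiTrans23.Setting
import Cfsg.Agent.Lib.Recog.FiTrans23.Search

/-!
A member far from the involution and the lifts of nine letters of Fi22, eight of which commute with it (owner:
helper22).
-/

set_option autoImplicit false
set_option maxRecDepth 20000

namespace CfsgLib.Recog.FiTrans23

open Cfsg CfsgLib.ThreeTrans CfsgLib.Recog.FiM22 CfsgLib.Recog.SporBound
open CfsgLib.Recog.FiM22.Tuple (adjT pos8)

universe u v

variable {G : Type v} [Group G] {Q : Type u} [Group Q]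

theorem getD_map_lt {α β : Type*} (f : α → β) (l : List α) (a : α) (b : β) {i : ℕ} (hi : i < l.length) :
    (l.map f).getD i b = f (l.getD i a) := by
  rw [List.getD_eq_getElem _ _ (by rwa [List.length_map]), List.getElem_map, List.getD_eq_getElem _ _ hi]

/-- A map which is multiplicative on the elements commuting with one carries a program to the program. -/
theorem map_gRun_on {f : G → Q} {w : G} (hmul : ∀ x y : G, Commute x w → Commute y w → f (x * y) = f x * f y)
    (hinv : ∀ x : G, Commute x w → f x⁻¹ = (f x)⁻¹) {t : List G} (ht : ∀ x ∈ t, Commute x w) :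
    ∀ (l : List (ℕ × ℕ)) (v : List G), stepsOK t.length l v.length = true → (∀ x ∈ v, Commute x w) →
      (gRun t l v).map f = gRun (t.map f) l (v.map f)
  | [], v, _, _ => rfl
  | s :: l, v, h, hv => by
    simp only [stepsOK, Bool.and_eq_true] at h
    obtain ⟨h1, h2, h3⟩ := h
    have h1' : s.1 < t.length := by simpa using h1
    have h2' : s.2 < v.length := by simpa using h2
    have ha : Commute (t.getD s.1 1) w := by
      rw [List.getD_eq_getElem _ _ h1']; exact ht _ (List.getElem_mem h1')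
    have hb : Commute (v.getD s.2 1) w := by
      rw [List.getD_eq_getElem _ _ h2']; exact hv _ (List.getElem_mem h2')
    rw [gRun, map_gRun_on hmul hinv ht l _ (by rw [List.length_append, List.length_singleton]; exact h3)
      (fun x hx => by
        rw [List.mem_append, List.mem_singleton] at hx
        rcases hx with hx | rfl
        exacts [hv x hx, (ha.mul_left hb).mul_left ha.inv_left]),
      gRun, List.map_append, List.map_singleton, hmul _ _ (ha.mul_left hb) ha.inv_left, hmul _ _ ha hb, hinv _ ha,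
      getD_map_lt f t 1 1 h1', getD_map_lt f v 1 1 h2']

variable [Finite G] [Finite Q] {d : G}

namespace Local

variable (X : Local d Q)
include X

theorem exists_far : ∃ y ∈ conjugatesOf d, ¬ Commute d y ∧ ∃ w ∈ nbrs (conjugatesOf d) d, Commute w y := by
  obtain ⟨e, he⟩ := FiM22.identify_of_type X.cover.grp X.cover.prim X.cover.type22
  have ha : e (Fi22Group.a 0) ∈ X.E := he ▸ ⟨_, mem_conjugatesOf_self, rfl⟩
  obtain ⟨w, hw, -⟩ := X.coord.lift _ ha
  obtain ⟨φ, P⟩ := X.coord_at hw.1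
  have hdw : d ∈ nbrs (conjugatesOf d) w := ⟨mem_conjugatesOf_self, fun h => hw.2.1 h.symm, hw.2.2.symm⟩
  by_contra hno
  push Not at hno
  have hall : ∀ q ∈ X.E, Commute (φ d) q := fun q hq => by
    obtain ⟨x, hx, rfl⟩ := P.lift q hq
    refine (P.comm x hx d hdw.2.2.symm).2 ?_
    by_contra hc
    exact hno x hx.1 hc w hw hx.2.2
  have hc : φ d ∈ Subgroup.center Q := by
    rw [Subgroup.mem_center_iff]
    intro q
    exact (RankThree.commute_closure hall (show q ∈ Subgroup.closure X.E by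
      rw [X.closure_E]; exact Subgroup.mem_top q)).eq.symm
  rw [X.center_Q, Subgroup.mem_bot] at hc
  have h2 := X.cover.grp.1.1 _ (P.mem d hdw)
  rw [hc, orderOf_one] at h2
  norm_num at h2

/-- The members commuting with a far one satisfy the hypotheses of the search. -/
theorem common {y w : G} (hy : y ∈ conjugatesOf d) (hdy : ¬ Commute d y) (hw : w ∈ nbrs (conjugatesOf d) d)
    (hwy : Commute w y) : Common X.E (X.im '' {x | x ∈ nbrs (conjugatesOf d) d ∧ Commute x y}) := by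
  set D := conjugatesOf d
  set T := {x | x ∈ nbrs D d ∧ Commute x y} with hT
  have hTC : ∀ x ∈ T, Commute x d := fun x hx => hx.1.2.2.symm
  have hTclosed : ∀ x ∈ T, ∀ z ∈ T, x * z * x⁻¹ ∈ T := fun x hx z hz =>
    ⟨X.nb_conj (hTC x hx) hz.1, (hx.2.mul_left hz.2).mul_left hx.2.inv_left⟩
  have hdx : ∀ x ∈ T, d ∈ nbrs D x := fun x hx => ⟨mem_conjugatesOf_self, fun h => hx.1.2.1 h.symm, hx.1.2.2.symm⟩
  have hyx : ∀ x ∈ T, y ∈ nbrs D x := fun x hx =>
    ⟨hy, fun h => hdy (h ▸ hx.1.2.2), hx.2⟩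
  refine ⟨?_, ⟨_, w, ⟨hw, hwy⟩, rfl⟩, ?_, ?_, ?_⟩
  · rintro _ ⟨x, hx, rfl⟩
    exact X.coord.mem x hx.1
  · rintro _ ⟨x, hx, rfl⟩ _ ⟨z, hz, rfl⟩
    exact ⟨_, hTclosed x hx z hz, X.im_conj (hTC x hx) (hTC z hz)⟩
  · rintro _ ⟨x, hx, rfl⟩
    obtain ⟨φ, P⟩ := X.coord_at hx.1.1
    set U := {z | z ∈ T ∧ z ∈ nbrs D x} with hU
    have hsub : X.im '' T ∩ nbrs X.E (X.im x) ⊆ X.im '' U := by
      rintro _ ⟨⟨z, hz, rfl⟩, hn⟩
      refine ⟨z, ⟨hz, hz.1.1, fun e => hn.2.1 (by rw [e]), ?_⟩, rfl⟩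
      exact (X.coord.comm z hz.1 x (hTC x hx)).1 hn.2.2
    have hfar : ¬ Commute (φ d) (φ y) := fun h => hdy ((P.comm y (hyx x hx) d (hTC x hx).symm).1 h)
    have himg : φ '' U ⊆ nbrs X.E (φ d) ∩ nbrs X.E (φ y) := by
      rintro _ ⟨z, ⟨hzT, hz⟩, rfl⟩
      refine ⟨⟨P.mem z hz, fun e => hzT.1.2.1 (P.inj hz (hdx x hx) e), ?_⟩,
        P.mem z hz, fun e => ?_, ?_⟩
      · exact ((P.comm z hz d (hTC x hx).symm)).2 hzT.1.2.2
      · exact hdy (P.inj hz (hyx x hx) e ▸ hzT.1.2.2)
      · exact (P.comm z hz y hx.2.symm).2 hzT.2.symm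
    refine (Set.ncard_le_ncard hsub (Set.toFinite _)).trans ((Set.ncard_image_le (Set.toFinite _)).trans ?_)
    rw [← Set.ncard_image_of_injOn (P.inj.mono fun z hz => hz.2)]
    exact (Set.ncard_le_ncard himg (Set.toFinite _)).trans
      (far_facts X.cover.grp X.cover.prim X.cover.type22 (P.mem d (hdx x hx)) (P.mem y (hyx x hx)) hfar).1
  · rintro _ ⟨x, hx, rfl⟩
    classical
    obtain ⟨φ, P⟩ := X.coord_at hx.1.1
    have hfar : ¬ Commute (φ d) (φ y) := fun h => hdy ((P.comm y (hyx x hx) d (hTC x hx).symm).1 h)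
    obtain ⟨-, t', hlen, ht', hpat, hnd⟩ :=
      far_facts X.cover.grp X.cover.prim X.cover.type22 (P.mem d (hdx x hx)) (P.mem y (hyx x hx)) hfar
    have hex : ∀ q : Q, ∃ z, q ∈ X.E → z ∈ nbrs D x ∧ φ z = q := fun q => by
      by_cases hq : q ∈ X.E
      · obtain ⟨z, hz, e⟩ := P.lift q hq
        exact ⟨z, fun _ => ⟨hz, e⟩⟩
      · exact ⟨1, fun h => absurd h hq⟩
    choose sec hsec using hex
    have hprop : ∀ q ∈ t', sec q ∈ nbrs D x ∧ φ (sec q) = q ∧ sec q ∈ T := by
      intro q hq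
      obtain ⟨hz, e⟩ := hsec q (ht' q hq).1.1
      refine ⟨hz, e, ⟨hz.1, fun h => (ht' q hq).1.2.1 (by rw [← e, h]), ?_⟩, ?_⟩
      · exact (P.comm _ hz d (hTC x hx).symm).1 (e.symm ▸ (ht' q hq).1.2.2)
      · exact ((P.comm _ hz y hx.2.symm).1 (e.symm ▸ (ht' q hq).2.2.2)).symm
    set t := t'.map sec with ht
    have htm : ∀ z ∈ t, z ∈ nbrs D x ∧ z ∈ T := fun z hz => by
      obtain ⟨q, hq, rfl⟩ := List.mem_map.1 hz
      exact ⟨(hprop q hq).1, (hprop q hq).2.2⟩
    have hφt : t.map φ = t' := by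
      rw [ht, List.map_map]
      exact (List.map_congr_left fun q hq => (hprop q hq).2.1).trans (List.map_id t')
    have hcx : ∀ z ∈ t, Commute z x := fun z hz => (htm z hz).1.2.2.symm
    have hlt : t.length = 7 := by rw [ht, List.length_map, hlen]
    have hst : stepsOK t.length prog t.length = true := by rw [hlt]; exact steps_checked
    have hrun : ∀ z ∈ gRun t prog t, z ∈ T := gRun_forall t (fun a ha b hb => hTclosed a (htm a ha).2 b hb) prog t hst
      fun z hz => (htm z hz).2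
    have hnd' : (gRun t prog t).Nodup := by
      refine List.Nodup.of_map φ ?_
      rw [map_gRun_on P.mul (fun z hz => P.map_inv hz) hcx prog t hst hcx, hφt]
      exact hnd
    refine ⟨t.map X.im, by rw [List.length_map, hlt], fun q hq => ?_, fun i hi j hj => ?_, ?_⟩
    · obtain ⟨z, hz, rfl⟩ := List.mem_map.1 hq
      refine ⟨⟨z, (htm z hz).2, rfl⟩, X.coord.mem z (htm z hz).2.1, fun e => ?_, ?_⟩
      · exact (htm z hz).1.2.1 (X.coord.inj (htm z hz).2.1 hx.1 e)
      · exact (X.coord.comm z (htm z hz).2.1 x (hTC x hx)).2 (htm z hz).1.2.2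
    · -- the pattern
      have hgd : ∀ k < 7, t.getD k 1 ∈ t ∧ (t.map X.im).getD k 1 = X.im (t.getD k 1) ∧
          t'.getD k 1 = φ (t.getD k 1) := fun k hk => by
        refine ⟨by rw [List.getD_eq_getElem _ _ (by omega)]; exact List.getElem_mem _,
          getD_map_lt X.im t 1 1 (by omega), ?_⟩
        rw [← hφt, getD_map_lt φ t 1 1 (by omega)]
      rcases i with _ | i <;> rcases j with _ | j
      · simp [(padj_zero 0 (by norm_num)).1]
      · obtain ⟨hm, e, -⟩ := hgd j (by omega)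
        rw [List.getD_cons_zero, List.getD_cons_succ, e, (padj_zero _ hj).1]
        exact iff_of_true ((X.coord.comm _ (htm _ hm).2.1 x (hTC x hx)).2 (htm _ hm).1.2.2) rfl
      · obtain ⟨hm, e, -⟩ := hgd i (by omega)
        rw [List.getD_cons_zero, List.getD_cons_succ, e, (padj_zero _ hi).2]
        exact iff_of_true ((X.coord.comm _ (htm _ hm).2.1 x (hTC x hx)).2 (htm _ hm).1.2.2).symm rfl
      · obtain ⟨hmi, ei, ei'⟩ := hgd i (by omega)
        obtain ⟨hmj, ej, ej'⟩ := hgd j (by omega)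
        have h := hpat (i + 1) hi (j + 1) hj
        rw [List.getD_cons_succ, List.getD_cons_succ, ei', ej',
          P.comm _ (htm _ hmj).1 _ (hcx _ hmi)] at h
        rw [List.getD_cons_succ, List.getD_cons_succ, ei, ej,
          X.coord.comm _ (htm _ hmj).2.1 _ (hTC _ (htm _ hmi).2), h]
    · rw [← map_gRun_on (fun a b => X.im_mul) (fun a ha => X.coord.map_inv ha)
        (fun z hz => hTC z (htm z hz).2) prog t hst (fun z hz => hTC z (htm z hz).2)]
      exact hnd'.map_on fun a ha b hb e => X.coord.inj (hrun a ha).1 (hrun b hb).1 e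

/-- A far member and lifts of the letters, eight of which commute with it. -/
theorem exists_letters : ∃ y ∈ conjugatesOf d, ¬ Commute d y ∧ ∃ e : Spor.Fi22 ≃* Q,
    e '' conjugatesOf (Fi22Group.a 0) = X.E ∧ ∃ lab : ℕ → G,
      (∀ x < 9, lab x ∈ nbrs (conjugatesOf d) d ∧ X.im (lab x) = e (Fi22Group.a x)) ∧
        ∀ x ∈ pos8, Commute (lab x) y := by
  obtain ⟨y, hy, hdy, w, hw, hwy⟩ := X.exists_far
  obtain ⟨u, hu, hup⟩ := (X.common hy hdy hw hwy).exists_tuple X.cover.grp X.cover.prim X.cover.type22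
  obtain ⟨e, he, hpos⟩ := FiM22.Tuple.exists_iso X.cover.grp X.cover.prim X.cover.type22 (t := u)
    (fun i hi => by obtain ⟨x, hx, ex⟩ := hu i hi; exact ex ▸ X.coord.mem x hx.1) hup
  have hex : ∀ x, ∃ f, x < 9 → f ∈ nbrs (conjugatesOf d) d ∧ X.im f = e (Fi22Group.a x) := fun x => by
    by_cases hx : x < 9
    · obtain ⟨k, hk⟩ := Fi22Aut.conj_letter hx
      have hm : e (Fi22Group.a x) ∈ X.E := he ▸ ⟨_, isConj_iff.2 ⟨k, hk.symm⟩, rfl⟩
      obtain ⟨f, hf, ef⟩ := X.coord.lift _ hm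
      exact ⟨f, fun _ => ⟨hf, ef⟩⟩
    · exact ⟨1, fun h => absurd h hx⟩
  choose lab hlab using hex
  refine ⟨y, hy, hdy, e, he, lab, hlab, fun x hx => ?_⟩
  have hx9 : x < 9 := (by decide : ∀ x ∈ pos8, x < 9) x hx
  obtain ⟨j, hj, ej⟩ := hpos x hx
  obtain ⟨z, hz, ez⟩ := hu j hj
  rw [X.coord.inj (hlab x hx9).1 hz.1 (((hlab x hx9).2.trans ej).trans ez.symm)]
  exact hz.2

end Local

end CfsgLib.Recog.FiTrans23
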