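import Cfsg.Agent.Lib.Recog.FiTrans23.Far
import Cfsg.Agent.Lib.Recog.FiM23.Identify

/-!
An embedding of Fi23 whose transpositions are the conjugates of the involution in the image (owner: helper22).
-/

set_option autoImplicit false
set_option maxRecDepth 20000

namespace CfsgLib.Recog.FiTrans23

open Cfsg CfsgLib.ThreeTrans CfsgLib.Recog.FiM22 CfsgLib.Recog.SporBound
open CfsgLib.Recog.FiM22.Tuple (pos8)
open CfsgLib.ThreeTrans.CosetIndex (letters hom_eq_prod)

universe u v

variable {G : Type v} [Group G] [Finite G] {Q : Type u} [Group Q] [Finite Q] {d : G}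

namespace Local

variable (X : Local d Q)
include X

/-- Two neighbours of a member which do not commute have a product of order three. -/
theorem cube {w x z : G} (hw : w ∈ conjugatesOf d) (hx : x ∈ nbrs (conjugatesOf d) w)
    (hz : z ∈ nbrs (conjugatesOf d) w) (hxz : ¬ Commute x z) : (x * z) ^ 3 = 1 := by
  obtain ⟨φ, P⟩ := X.coord_at hw
  set D := conjugatesOf d
  have hnb : ∀ a b : G, a ∈ nbrs D w → b ∈ nbrs D w → a * b * a⁻¹ ∈ nbrs D w := fun a b ha hb => by
    have hw' : a * w * a⁻¹ = w := by rw [ha.2.2.symm.eq, mul_inv_cancel_right]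
    refine ⟨X.conj_mem a hb.1, fun e => hb.2.1 (mul_left_cancel (mul_right_cancel (e.trans hw'.symm))), ?_⟩
    rw [← hw']
    exact commute_conj_iff.2 hb.2.2
  have hE := X.cover.grp.1
  have hpx := P.mem x hx
  have hpz := P.mem z hz
  have hcx : Commute x w := hx.2.2.symm
  have hcz : Commute z w := hz.2.2.symm
  have hne : ¬ Commute (φ x) (φ z) := fun h => hxz ((P.comm z hz x hcx).1 h)
  have e : x * z * x⁻¹ = z * x * z⁻¹ := by
    refine P.inj (hnb x z hx hz) (hnb z x hz hx) ?_
    rw [P.map_conj hcx hcz, P.map_conj hcz hcx, inv_eq hE hpx, inv_eq hE hpz]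
    exact braid hE hpx hpz hne
  rw [inv_eq_of_mul_eq_one_right (X.sq hx.1), inv_eq_of_mul_eq_one_right (X.sq hz.1)] at e
  calc (x * z) ^ 3 = x * z * x * (z * x * z) := by simp only [pow_succ, pow_zero, one_mul, mul_assoc]
    _ = x * z * x * (x * z * x) := by rw [e]
    _ = x * (z * (x * x) * z) * x := by simp only [mul_assoc]
    _ = 1 := by rw [X.sq hx.1, mul_one, X.sq hz.1, mul_one, X.sq hx.1]

theorem cube_pow_two {x z : G} (hx : x * x = 1) (hz : z * z = 1) (h : Commute x z) : (x * z) ^ 2 = 1 := by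
  rw [h.mul_pow, pow_two, pow_two, hx, hz, one_mul]

/-- An embedding of Fi23. -/
theorem exists_embedding : ∃ ψ : Spor.Fi23 →* G, Function.Injective ψ ∧
    Subgroup.centralizer ({d} : Set G) ≤ ψ.range ∧
      ∀ x : G, x ∈ conjugatesOf d ∧ x ∈ ψ.range ↔ x ∈ ψ '' FiThree.trans := by
  obtain ⟨y, hy, hdy, e, he, lab, hlab, hpos⟩ := X.exists_letters
  set D := conjugatesOf d with hDdef
  let L : ℕ → G := fun x => if x < 9 then lab x else if x = 9 then y else 1
  have hL : ∀ x < 9, L x = lab x := fun x hx => if_pos hx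
  have hL9 : L 9 = y := rfl
  have hsq : ∀ x, L x * L x = 1 := fun x => by
    by_cases hx : x < 9
    · rw [hL x hx]; exact X.sq (hlab x hx).1.1
    · by_cases h9 : x = 9
      · subst h9; exact X.sq hy
      · simp [L, hx, h9]
  have hcd : ∀ x < 9, Commute (lab x) d := fun x hx => (hlab x hx).1.2.2.symm
  have hword : ∀ w : List ℕ, (∀ x ∈ w, x < 9) → Commute (w.map L).prod d ∧
      X.im (w.map L).prod = e ((w.map Fi22Group.a).prod) := by
    intro w hw
    induction w with
    | nil => exact ⟨Commute.one_left d, by simp [X.coord.map_one]⟩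
    | cons x w ih =>
      obtain ⟨h1, h2⟩ := ih fun z hz => hw z (List.mem_cons_of_mem _ hz)
      have hx := hw x List.mem_cons_self
      rw [List.map_cons, List.prod_cons, List.map_cons, List.prod_cons, hL x hx]
      exact ⟨(hcd x hx).mul_left h1, by rw [X.im_mul (hcd x hx) h1, (hlab x hx).2, h2, map_mul]⟩
  -- the letters generate the centralizer
  set R := Subgroup.closure {f : G | ∃ x < 9, f = L x} with hR
  have hR9 : ∀ x < 9, lab x ∈ R := fun x hx => Subgroup.subset_closure ⟨x, hx, (hL x hx).symm⟩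
  have hcover : ∀ q : Q, ∃ u ∈ R, Commute u d ∧ X.im u = q := by
    intro q
    obtain ⟨a, rfl⟩ := e.surjective q
    have ha : a ∈ Subgroup.closure {g : Spor.Fi22 | ∃ x < 9, g = Fi22Group.a x} :=
      FiM23.closure_letters ▸ Subgroup.mem_top a
    induction ha using Subgroup.closure_induction with
    | mem g hg =>
      obtain ⟨x, hx, rfl⟩ := hg
      exact ⟨lab x, hR9 x hx, hcd x hx, (hlab x hx).2⟩
    | one => exact ⟨1, one_mem _, Commute.one_left d, by rw [X.coord.map_one, map_one]⟩
    | mul p q _ _ hp hq =>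
      obtain ⟨u, hu, hud, hu'⟩ := hp
      obtain ⟨v, hv, hvd, hv'⟩ := hq
      exact ⟨u * v, mul_mem hu hv, hud.mul_left hvd, by rw [X.im_mul hud hvd, hu', hv', map_mul]⟩
    | inv p _ hp =>
      obtain ⟨u, hu, hud, hu'⟩ := hp
      exact ⟨u⁻¹, inv_mem hu, hud.inv_left, by rw [X.coord.map_inv hud, hu', map_inv]⟩
  have hnbR : ∀ f ∈ nbrs D d, f ∈ R := by
    intro f hf
    obtain ⟨g, hg⟩ := X.cover.prim.1 _ (X.coord.mem _ (hlab 0 (by norm_num)).1) _ (X.coord.mem f hf)
    obtain ⟨u, hu, hud, hu'⟩ := hcover g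
    rw [← X.coord.inj (X.nb_conj hud (hlab 0 (by norm_num)).1) hf (by
      rw [X.im_conj hud (hcd 0 (by norm_num)), hu', hg])]
    exact mul_mem (mul_mem hu (hR9 0 (by norm_num))) (inv_mem hu)
  have hCR : Subgroup.centralizer ({d} : Set G) ≤ R := by
    rw [← X.closure_nb]; exact (Subgroup.closure_le _).2 hnbR
  have hy6 : ¬ Commute (L 6) y := by
    intro hc
    refine hdy ?_
    have hd : d ∈ R := hCR (X.mem_C.2 (Commute.refl d))
    refine (RankThree.commute_closure (fun z hz => ?_) hd).symm
    obtain ⟨x, hx, rfl⟩ := hz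
    by_cases hp : x ∈ pos8
    · rw [hL x hx]; exact (hpos x hp).symm
    · rw [FiM23.pos8_spec x hx hp]; exact hc.symm
  have h06 : Commute (L 0) (L 6) := by
    have hc : Commute (Fi22Group.a 0) (Fi22Group.a 6) := by
      have e := relWord_one Fi22Group.nodes (w := [0, 6, 0, 6]) (List.contains_iff_mem.1 (show
        (CfsgLib.ThreeTrans.CosetIndex.relWords Spor.Fi22.edges Spor.Fi22.extra
          Cfsg.Agent.S1687.gens).contains [0, 6, 0, 6] = true by decide +kernel))
      simp only [List.map_cons, List.map_nil, List.prod_cons, List.prod_nil, mul_one] at e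
      have e2 := eq_inv_of_mul_eq_one_left (show Fi22Group.a 0 * Fi22Group.a 6 * (Fi22Group.a 0 * Fi22Group.a 6) = 1 by
        rw [mul_assoc]; exact e)
      rwa [mul_inv_rev, inv_eq_of_mul_eq_one_right (Fi22U6.a_sq 0), inv_eq_of_mul_eq_one_right (Fi22U6.a_sq 6)] at e2
    rw [hL 0 (by norm_num), hL 6 (by norm_num)]
    exact (X.coord.comm _ (hlab 6 (by norm_num)).1 _ (hcd 0 (by norm_num))).1 (by
      rw [(hlab 0 (by norm_num)).2, (hlab 6 (by norm_num)).2]; exact hc.map e.toMonoidHom)
  have hy06 : (L 6 * y) ^ 3 = 1 := by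
    have h0 := (hlab 0 (by norm_num)).1
    refine X.cube h0.1 ⟨?_, fun e' => hy6 ?_, ?_⟩ ⟨hy, fun e' => hdy ?_, ?_⟩ hy6
    · rw [hL 6 (by norm_num)]; exact (hlab 6 (by norm_num)).1.1
    · rw [e']; exact hpos 0 (by decide)
    · rw [← hL 0 (by norm_num)]; exact h06
    · exact e' ▸ h0.2.2
    · exact hpos 0 (by decide)
  have hrel : ∀ r ∈ Spor.coxRelators Spor.Fi23.edges ∪ {r | r ∈ Spor.Fi23.extra},
      FreeGroup.lift (fun z => L (FiThree.gens.idxOf z)) r = 1 := by
    rintro r (⟨x, -, z, -, rfl⟩ | hr)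
    · rw [map_pow, map_mul, FreeGroup.lift_apply_of, FreeGroup.lift_apply_of]
      have hck := List.all_eq_true.1 (List.all_eq_true.1 FiM23.pair_checked x (FiM23.gens_mem x).1) z
        (FiM23.gens_mem z).1
      have hxl := (FiM23.gens_mem x).2
      have hzl := (FiM23.gens_mem z).2
      set p := FiThree.gens.idxOf x with hp
      set q := FiThree.gens.idxOf z with hq
      set m := Spor.coxLabel Spor.Fi23.edges x z with hm
      simp only [Bool.and_eq_true, Bool.or_eq_true, Nat.beq_eq] at hck
      obtain ⟨hm3, hck⟩ := hck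
      cases hs : Nat.blt p 9 && Nat.blt q 9 with
      | true =>
        simp only [Bool.and_eq_true] at hs
        have hp9 : p < 9 := by simpa using hs.1
        have hq9 : q < 9 := by simpa using hs.2
        rw [show (Nat.blt p 9 && Nat.blt q 9) = true by simp [hs.1, hs.2], cond_true] at hck
        have hone := relWord_one Fi22Group.nodes (List.contains_iff_mem.1 hck)
        rw [FiM22.prod_replicate] at hone
        simp only [List.map_cons, List.map_nil, List.prod_cons, List.prod_nil, mul_one] at hone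
        obtain ⟨hf, himf⟩ := hlab p hp9
        obtain ⟨hk, himk⟩ := hlab q hq9
        have hE := X.cover.grp.1
        have hq' : (X.im (lab p) * X.im (lab q)) ^ m = 1 := by
          rw [himf, himk, ← map_mul, ← map_pow]
          exact (congrArg e hone).trans (map_one e)
        rw [hL p hp9, hL q hq9]
        have heq : X.im (lab p) * X.im (lab q) = 1 → lab p = lab q := fun h => X.coord.inj hf hk (by
          rw [eq_inv_of_mul_eq_one_left h]
          exact inv_eq_of_mul_eq_one_right (mul_self hE (X.coord.mem _ hk)))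
        rcases hm3 with (h1 | h2) | h3
        · rw [h1, pow_one] at hq' ⊢
          rw [heq hq']; exact X.sq hk.1
        · rw [h2] at hq' ⊢
          have hc : Commute (X.im (lab p)) (X.im (lab q)) := by
            rw [pow_two] at hq'
            have := eq_inv_of_mul_eq_one_left hq'
            rwa [mul_inv_rev, inv_eq_of_mul_eq_one_right (mul_self hE (X.coord.mem _ hk)),
              inv_eq_of_mul_eq_one_right (mul_self hE (X.coord.mem _ hf))] at this
          exact cube_pow_two X (X.sq hf.1) (X.sq hk.1) ((X.coord.comm _ hk _ hf.2.2.symm).1 hc)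
        · rw [h3] at hq' ⊢
          by_cases hc : Commute (lab p) (lab q)
          · have hc' := (X.coord.comm _ hk _ hf.2.2.symm).2 hc
            rw [pow_succ, hc'.mul_pow, pow_two, pow_two, mul_self hE (X.coord.mem _ hf),
              mul_self hE (X.coord.mem _ hk), one_mul, one_mul] at hq'
            rw [heq hq', X.sq hk.1, one_pow]
          · exact X.cube mem_conjugatesOf_self hf hk hc
      | false =>
        rw [show (Nat.blt p 9 && Nat.blt q 9) = false from hs, cond_false] at hck
        have hor : p = 9 ∨ q = 9 := by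
          simp only [Bool.and_eq_false_iff] at hs
          rcases hs with hs | hs
          · left
            have : ¬ p < 9 := fun h => Bool.eq_false_iff.1 hs (Nat.ble_eq_true_of_le h)
            omega
          · right
            have : ¬ q < 9 := fun h => Bool.eq_false_iff.1 hs (Nat.ble_eq_true_of_le h)
            omega
        by_cases hpq : p = q
        · rw [show Nat.beq p q = true from by rw [hpq]; exact Nat.beq_refl _, cond_true] at hck
          rw [Nat.eq_of_beq_eq_true hck, pow_one, hpq]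
          exact hsq q
        · rw [show Nat.beq p q = false from Bool.eq_false_iff.2 fun h => hpq (Nat.eq_of_beq_eq_true h),
            cond_false] at hck
          have hcase : ∀ i < 9, i ≠ 6 → Commute (L i) y := fun i hi h6 => by
            rw [hL i hi]
            refine hpos i ?_
            by_contra hp'; exact h6 (FiM23.pos8_spec i hi hp')
          cases h15 : Nat.beq (p + q) 15 with
          | true =>
            rw [h15, cond_true] at hck
            rw [Nat.eq_of_beq_eq_true hck]
            have hsum := Nat.eq_of_beq_eq_true h15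
            rcases hor with e' | e'
            · rw [e', show q = 6 by omega, hL9,
                show y * L 6 = y * (L 6 * y) * y⁻¹ by group, conj_pow, hy06, mul_one, mul_inv_cancel]
            · rw [e', show p = 6 by omega, hL9]; exact hy06
          | false =>
            rw [h15, cond_false] at hck
            rw [Nat.eq_of_beq_eq_true hck]
            have hne : p + q ≠ 15 := fun h => by rw [h] at h15; exact absurd h15 (by decide)
            have hc : Commute (L p) (L q) := by
              rcases hor with e' | e'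
              · rw [e', hL9]; exact (hcase q (by omega) (by omega)).symm
              · rw [e', hL9]; exact hcase p (by omega) (by omega)
            exact cube_pow_two X (hsq p) (hsq q) hc
    · rw [hom_eq_prod FiThree.gens (FreeGroup.lift fun z => L (FiThree.gens.idxOf z)) L
        (fun z => FreeGroup.lift_apply_of) hsq r]
      have hck := List.all_eq_true.1 FiM23.extra_checked r hr
      simp only [Bool.and_eq_true, List.all_eq_true] at hck
      obtain ⟨hlt, hin⟩ := hck
      set w := letters FiThree.gens r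
      have hw : ∀ x ∈ w, x ∈ pos8 := fun x hx => List.contains_iff_mem.1 (hlt x hx)
      have hw9 : ∀ x ∈ w, x < 9 := fun x hx => (by decide : ∀ x ∈ pos8, x < 9) x (hw x hx)
      obtain ⟨hud, hu'⟩ := hword w hw9
      rw [relWord_one Fi22Group.nodes (List.contains_iff_mem.1 hin), map_one] at hu'
      have huy : Commute (w.map L).prod y := by
        refine (Commute.list_prod_right _ y fun z hz => ?_).symm
        obtain ⟨x, hx, rfl⟩ := List.mem_map.1 hz
        rw [hL x (hw9 x hx)]
        exact (hpos x (hw x hx)).symm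
      set u := (w.map L).prod
      let uC : ↥(Subgroup.centralizer ({d} : Set G)) := ⟨u, X.mem_C.2 hud⟩
      rw [show X.im u = X.π uC from X.im_eq uC] at hu'
      rcases (X.cover.ker uC).1 hu' with e' | e'
      · exact congrArg Subtype.val e'
      · exact absurd (((congrArg Subtype.val e').trans X.coe) ▸ huy) hdy
  let ψ : Spor.Fi23 →* G := PresentedGroup.toGroup hrel
  have hψ : ∀ x, x < 10 → ψ (FiThree.gg x) = L x := by
    intro x hx
    obtain ⟨z, rfl⟩ : ∃ z, FiThree.gens.idxOf z = x := by
      have h : ∀ x < 10, ∃ z ∈ FiThree.gens, FiThree.gens.idxOf z = x := by decide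
      obtain ⟨z, -, hz⟩ := h x hx
      exact ⟨z, hz⟩
    rw [FiThree.gg, gen_of FiThree.nodes]
    exact PresentedGroup.toGroup.of hrel
  haveI := FiThree.isSimple_fi23
  have hinj : Function.Injective ψ := by
    rcases ψ.normal_ker.eq_bot_or_eq_top with h | h
    · exact (MonoidHom.ker_eq_bot_iff ψ).1 h
    · exfalso
      have h1 : ψ (FiThree.gg 9) = 1 := MonoidHom.mem_ker.1 (h ▸ Subgroup.mem_top _)
      rw [hψ 9 (by norm_num), hL9] at h1
      exact X.ne_one hy h1
  have hC : Subgroup.centralizer ({d} : Set G) ≤ ψ.range := hCR.trans ((Subgroup.closure_le _).2 fun z ⟨x, hx, hz⟩ =>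
    ⟨_, (hψ x (by omega)).trans hz.symm⟩)
  -- the transpositions
  set T := ψ '' FiThree.trans
  have hTconj : ∀ h ∈ ψ.range, ∀ z ∈ T, h * z * h⁻¹ ∈ T := by
    rintro _ ⟨k, rfl⟩ _ ⟨s, hs, rfl⟩
    obtain ⟨g, rfl⟩ := FiThree.mem_trans.1 hs
    exact ⟨k * (g * FiThree.zz * g⁻¹) * k⁻¹, FiThree.mem_trans.2 ⟨k * g, by group⟩, by
      rw [map_mul, map_mul, map_inv]⟩
  have hggT : ∀ x < 10, L x ∈ T := fun x hx => by
    obtain ⟨g, hg⟩ := FiThree.gg_conj hx
    exact ⟨_, FiThree.mem_trans.2 ⟨g, hg⟩, hψ x hx⟩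
  have hdr : d ∈ ψ.range := hC (X.mem_C.2 (Commute.refl d))
  have hyr : y ∈ ψ.range := ⟨_, (hψ 9 (by norm_num)).trans hL9⟩
  have hdT : d ∈ T := by
    have h0 := (hlab 0 (by norm_num)).1
    have h3 := X.cube h0.1 ⟨mem_conjugatesOf_self, fun e' => h0.2.1 e'.symm, h0.2.2.symm⟩
      ⟨hy, fun e' => hdy (e' ▸ h0.2.2), hpos 0 (by decide)⟩ hdy
    have key : y * d * y * (y * d)⁻¹ = d := by
      rw [mul_inv_rev, inv_eq_of_mul_eq_one_right (X.sq hy), inv_eq_of_mul_eq_one_right X.sq_d]
      calc y * d * y * (d * y) = d * (d * y) ^ 3 := by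
            simp only [pow_succ, pow_zero, one_mul, ← mul_assoc, X.sq_d]
        _ = d := by rw [h3, mul_one]
    exact key ▸ hTconj _ (mul_mem hyr hdr) _ (hL9 ▸ hggT 9 (by norm_num))
  have hTD : T ⊆ D := by
    rintro _ ⟨s, hs, rfl⟩
    obtain ⟨g, rfl⟩ := FiThree.mem_trans.1 hs
    obtain ⟨s', hs', es'⟩ := hdT
    obtain ⟨g', rfl⟩ := FiThree.mem_trans.1 hs'
    refine isConj_iff.2 ⟨ψ g * (ψ g')⁻¹, ?_⟩
    rw [← es']
    simp only [map_mul, map_inv]
    group
  refine ⟨ψ, hinj, hC, fun x => ⟨fun ⟨hx, hxr⟩ => ?_, fun hx => ⟨hTD hx, ?_⟩⟩⟩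
  · -- a fixed transposition
    haveI : Fact (Nat.Prime 2) := ⟨Nat.prime_two⟩
    obtain ⟨f, hfT, hfx⟩ : ∃ f ∈ T, Commute x f := by
      by_contra hno
      push Not at hno
      have hσ : (MulAut.conj x).toEquiv ^ 2 = 1 := by
        refine Equiv.ext fun z => ?_
        show x * (x * z * x⁻¹) * x⁻¹ = z
        rw [show x * (x * z * x⁻¹) * x⁻¹ = x * x * z * (x * x)⁻¹ by group, X.sq hx, one_mul, inv_one, mul_one]
      have h := FiM22Two.ncard_modEq_fixed (MulAut.conj x).toEquiv hσ T fun z => by
        refine ⟨fun h => ?_, fun h => hTconj x hxr z h⟩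
        have := hTconj x hxr _ h
        change x * (x * z * x⁻¹) * x⁻¹ ∈ T at this
        rwa [show x * (x * z * x⁻¹) * x⁻¹ = x * x * z * (x * x)⁻¹ by group, X.sq hx, one_mul, inv_one, mul_one] at this
      have hempty : T ∩ {z | (MulAut.conj x).toEquiv z = z} = ∅ := by
        refine Set.eq_empty_of_forall_notMem fun z hz => hno z hz.1 ?_
        exact mul_inv_eq_iff_eq_mul.1 hz.2
      rw [hempty, Set.ncard_empty, Set.ncard_image_of_injective _ hinj, ← Nat.card_coe_set_eq,
        FiThree.card_trans] at h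
      exact absurd h (by decide)
    obtain ⟨s, hs, rfl⟩ := hfT
    obtain ⟨k, rfl⟩ := FiThree.mem_trans.1 hs
    obtain ⟨s₀, hs₀, es₀⟩ := hdT
    obtain ⟨k₀, rfl⟩ := FiThree.mem_trans.1 hs₀
    set h := ψ (k₀ * k⁻¹)
    have hhf : h * ψ (k * FiThree.zz * k⁻¹) * h⁻¹ = d := by
      rw [← es₀, ← map_inv, ← map_mul, ← map_mul]
      congr 1
      group
    set x' := h * x * h⁻¹ with hx'
    have hx'd : Commute x' d := hhf ▸ commute_conj_iff.2 hfx
    have hx'T : x' ∈ T := by
      by_cases ed : x' = d
      · rw [ed]; exact ⟨_, FiThree.mem_trans.2 ⟨k₀, rfl⟩, es₀⟩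
      have hx'N : x' ∈ nbrs D d := ⟨X.conj_mem h hx, ed, hx'd.symm⟩
      obtain ⟨g, hg⟩ := X.cover.prim.1 _ (X.coord.mem _ (hlab 0 (by norm_num)).1) _ (X.coord.mem x' hx'N)
      obtain ⟨u, -, hud, hu'⟩ := hcover g
      rw [← X.coord.inj (X.nb_conj hud (hlab 0 (by norm_num)).1) hx'N (by
        rw [X.im_conj hud (hcd 0 (by norm_num)), hu', hg])]
      exact hTconj u (hC (X.mem_C.2 hud)) _ (hL 0 (by norm_num) ▸ hggT 0 (by norm_num))
    have := hTconj h⁻¹ (inv_mem ⟨_, rfl⟩) x' hx'T
    rwa [hx', show h⁻¹ * (h * x * h⁻¹) * h⁻¹⁻¹ = x by group] at this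
  · obtain ⟨s, -, rfl⟩ := hx
    exact ⟨s, rfl⟩

end Local

end CfsgLib.Recog.FiTrans23
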