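import Cfsg.Agent.Lib.Recog.FiM22.Tuple.Find

/-!
Programs which generate sets of transpositions of Fi22 from a few of them, and orbit forests (owner: helper22).
-/

set_option autoImplicit false

namespace CfsgLib.Recog.FiTrans23

open CfsgLib.ThreeTrans CfsgLib.Recog.FiM22 CfsgLib.Recog.FiM22.Tuple
open CfsgLib.ThreeTrans.CosetIndex (forallFrom forallFrom_elim)

/-- Append the conjugates listed by the steps. -/
noncomputable def run (gens : List Item) : List (ℕ × ℕ) → List ℕ → List ℕ
  | [], v => v
  | s :: l, v => run gens l (v ++ [trW (iW (item gens s.1)) (v.getD s.2 0)])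

/-- The values of a program. -/
noncomputable def vals (gens : List Item) (steps : List (ℕ × ℕ)) : List ℕ := run gens steps (gens.map ipt)

/-- The steps refer to generators and to earlier values. -/
noncomputable def stepsOK (n : ℕ) : List (ℕ × ℕ) → ℕ → Bool
  | [], _ => true
  | s :: l, m => Nat.blt s.1 n && (Nat.blt s.2 m && stepsOK n l (m + 1))

/-- No repetition. -/
noncomputable def distinctB : List ℕ → Bool
  | [] => true
  | a :: l => l.all (fun b => !Nat.beq a b) && distinctB l

theorem distinctB_iff : ∀ l : List ℕ, distinctB l = true ↔ l.Nodup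
  | [] => by simp [distinctB]
  | a :: l => by
    simp only [distinctB, Bool.and_eq_true, List.all_eq_true, Bool.not_eq_true', List.nodup_cons, distinctB_iff l]
    refine and_congr_left fun _ => ⟨fun h ha => ?_, fun h b hb => Bool.eq_false_iff.2 fun e => ?_⟩
    · exact Bool.eq_false_iff.1 (h a ha) (Nat.beq_refl a)
    · exact h (Nat.eq_of_beq_eq_true e ▸ hb)

/-- The fit cosets are in the forest. -/
noncomputable def covB (T : TNode) (cand : ℕ → Bool) (c : ℕ) : Bool :=
  cond (cand c) (Nat.blt (getP T.pos c) T.size && Nat.beq (getP T.entC (getP T.pos c)) c) true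

/-- Two cosets commute, the first given by an item. -/
noncomputable def commB (i : Item) (c : ℕ) : Bool := Nat.beq (trW (iW i) c) c

/-- The same program in a group. -/
def gRun {G : Type*} [Group G] (t : List G) : List (ℕ × ℕ) → List G → List G
  | [], v => v
  | s :: l, v => gRun t l (v ++ [t.getD s.1 1 * v.getD s.2 1 * (t.getD s.1 1)⁻¹])

variable {G : Type*} [Group G]

theorem map_gRun {H : Type*} [Group H] (f : G →* H) (t : List G) :
    ∀ (l : List (ℕ × ℕ)) (v : List G), (gRun t l v).map f = gRun (t.map f) l (v.map f)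
  | [], v => rfl
  | s :: l, v => by
    have e : ∀ (w : List G) (i : ℕ), (w.map f).getD i 1 = f (w.getD i 1) := fun w i => by
      conv_lhs => rw [← map_one f]
      exact List.getD_map w (1 : G) ⇑f
    rw [gRun, map_gRun f t l, gRun, List.map_append, List.map_singleton, map_mul, map_mul, map_inv, e, e]

theorem gRun_forall {P : G → Prop} (t : List G) (hstep : ∀ a ∈ t, ∀ b, P b → P (a * b * a⁻¹)) :
    ∀ (l : List (ℕ × ℕ)) (v : List G), stepsOK t.length l v.length = true → (∀ b ∈ v, P b) →
      ∀ b ∈ gRun t l v, P b
  | [], v, _, hv => hv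
  | s :: l, v, h, hv => by
    simp only [stepsOK, Bool.and_eq_true] at h
    obtain ⟨h1, h2, h3⟩ := h
    have h1' : s.1 < t.length := by simpa using h1
    have h2' : s.2 < v.length := by simpa using h2
    refine gRun_forall t hstep l _ (by rw [List.length_append, List.length_singleton]; exact h3) fun b hb => ?_
    rw [List.mem_append, List.mem_singleton] at hb
    rcases hb with hb | rfl
    · exact hv b hb
    · rw [List.getD_eq_getElem _ _ h1', List.getD_eq_getElem _ _ h2']
      exact hstep _ (List.getElem_mem h1') _ (hv _ (List.getElem_mem h2'))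

theorem gRun_prefix (t : List G) : ∀ (l : List (ℕ × ℕ)) (v : List G), ∃ w, gRun t l v = v ++ w
  | [], v => ⟨[], (List.append_nil v).symm⟩
  | s :: l, v => by
    obtain ⟨w, hw⟩ := gRun_prefix t l (v ++ [t.getD s.1 1 * v.getD s.2 1 * (t.getD s.1 1)⁻¹])
    exact ⟨_, by rw [gRun, hw, List.append_assoc]⟩

variable [Finite G] {D : Set G} {L pt : ℕ → G} (N : Tuple.Numbered D L pt)
include N

theorem inj_list : ∀ l : List ℕ, (∀ c ∈ l, c < 3510) → ((l.map pt).Nodup ↔ l.Nodup) := fun l hl =>
  ⟨fun h => h.of_map pt, fun h => h.map_on fun a ha b hb e => N.inj a (hl a ha) b (hl b hb) e⟩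

theorem run_spec (gens : List Item) (hg : ∀ i ∈ gens, itemOK i = true) :
    ∀ (l : List (ℕ × ℕ)) (v : List ℕ), stepsOK gens.length l v.length = true → (∀ c ∈ v, c < 3510) →
      (∀ c ∈ run gens l v, c < 3510) ∧
        (run gens l v).map pt = gRun (gens.map fun i => pt (ipt i)) l (v.map pt)
  | [], v, _, hv => ⟨hv, rfl⟩
  | s :: l, v, h, hv => by
    simp only [stepsOK, Bool.and_eq_true] at h
    obtain ⟨h1, h2, h3⟩ := h
    have h1' : s.1 < gens.length := by simpa using h1
    have h2' : s.2 < v.length := by simpa using h2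
    set i := item gens s.1 with hi
    have hi' : i = gens[s.1] := by rw [hi, item, List.getD_eq_getElem _ _ h1']
    have him : itemOK i = true := hg _ (hi' ▸ List.getElem_mem h1')
    have hc : v.getD s.2 0 < 3510 := by
      rw [List.getD_eq_getElem _ _ h2']; exact hv _ (List.getElem_mem h2')
    obtain ⟨hn1, hn2⟩ := N.conj_item him hc
    obtain ⟨r1, r2⟩ := run_spec gens hg l (v ++ [trW (iW i) (v.getD s.2 0)])
      (by rw [List.length_append, List.length_singleton]; exact h3) fun c hc' => by
        rw [List.mem_append, List.mem_singleton] at hc'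
        rcases hc' with hc' | rfl
        exacts [hv c hc', hn1]
    refine ⟨r1, ?_⟩
    rw [run, r2, gRun, List.map_append, List.map_singleton, hn2]
    congr 3
    rw [List.getD_eq_getElem (v.map pt) _ (by rwa [List.length_map]), List.getElem_map,
      List.getD_eq_getElem _ _ h2', List.getD_eq_getElem (gens.map _) _ (by rwa [List.length_map]), List.getElem_map,
      hi']

theorem vals_spec (gens : List Item) (hg : ∀ i ∈ gens, itemOK i = true) {steps : List (ℕ × ℕ)}
    (h : stepsOK gens.length steps gens.length = true) :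
    (∀ c ∈ vals gens steps, c < 3510) ∧
      (vals gens steps).map pt = gRun (gens.map fun i => pt (ipt i)) steps (gens.map fun i => pt (ipt i)) := by
  obtain ⟨h1, h2⟩ := run_spec N gens hg steps (gens.map ipt) (by rwa [List.length_map]) (fun c hc => by
    obtain ⟨i, hi, rfl⟩ := List.mem_map.1 hc
    exact (N.ipt_spec (hg i hi)).1)
  exact ⟨h1, by rw [vals, h2, List.map_map]; rfl⟩

/-- Every entry of a forest with a property kept by the generators leads to a root with it. -/
theorem forest_elim {T : TNode} (hroots : ∀ i ∈ T.roots, itemOK i = true) (hgens : ∀ i ∈ T.gens, itemOK i = true)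
    (hent : forallFrom (entOK T) 0 T.size = true) {P : ℕ → Prop}
    (hP : ∀ s ∈ T.gens, ∀ c < 3510, P c → P (trW (iW s) c)) :
    ∀ i < T.size, getP T.entC i < 3510 ∧ (P (getP T.entC i) → ∃ r ∈ T.roots, P (ipt r)) := by
  intro i
  induction i using Nat.strong_induction_on with
  | _ i ih =>
    intro hi
    have h := forallFrom_elim hent (i := i) (Nat.zero_le _) (by omega)
    unfold entOK at h
    cases hr : Nat.beq (getP T.entJ i) T.gens.length with
    | true =>
      rw [hr, cond_true] at h
      simp only [Bool.and_eq_true, Nat.beq_eq] at h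
      have hlt : getP T.entP i < T.roots.length := by simpa using h.1
      have hm : item T.roots (getP T.entP i) ∈ T.roots := by
        rw [item, List.getD_eq_getElem _ _ hlt]; exact List.getElem_mem hlt
      rw [h.2]
      exact ⟨(N.ipt_spec (hroots _ hm)).1, fun hp => ⟨_, hm, hp⟩⟩
    | false =>
      rw [hr, cond_false] at h
      simp only [Bool.and_eq_true, Nat.beq_eq] at h
      obtain ⟨hj, hp, he⟩ := h
      have hj' : getP T.entJ i < T.gens.length := by simpa using hj
      have hp' : getP T.entP i < i := by simpa using hp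
      set s := item T.gens (getP T.entJ i) with hs
      have hsm : s ∈ T.gens := by
        rw [hs, item, List.getD_eq_getElem _ _ hj']; exact List.getElem_mem hj'
      obtain ⟨hpc, hpar⟩ := ih _ hp' (by omega)
      obtain ⟨hq1, hq2⟩ := N.conj_item (hgens _ hsm) hpc
      rw [he]
      refine ⟨hq1, fun hPc => hpar ?_⟩
      obtain ⟨hb1, hb2⟩ := N.conj_item (hgens _ hsm) hq1
      have hinv : trW (iW s) (trW (iW s) (getP T.entC (getP T.entP i))) = getP T.entC (getP T.entP i) := by
        refine N.inj _ hb1 _ hpc ?_
        have h2 := mul_self N.set3 ((N.mem _).2 ⟨_, (N.ipt_spec (hgens _ hsm)).1, rfl⟩)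
        rw [hb2, hq2]
        calc pt (ipt s) * (pt (ipt s) * pt (getP T.entC (getP T.entP i)) * (pt (ipt s))⁻¹) * (pt (ipt s))⁻¹
            = pt (ipt s) * pt (ipt s) * pt (getP T.entC (getP T.entP i)) * (pt (ipt s) * pt (ipt s))⁻¹ := by group
          _ = _ := by rw [h2]; group
      exact hinv ▸ hP s hsm _ hq1 hPc

/-- A fit coset with a property kept by the generators leads to a root with it. -/
theorem forest_root {T : TNode} (hroots : ∀ i ∈ T.roots, itemOK i = true) (hgens : ∀ i ∈ T.gens, itemOK i = true)
    (hent : forallFrom (entOK T) 0 T.size = true) {cand : ℕ → Bool}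
    (hcov : forallFrom (covB T cand) 0 3510 = true) {P : ℕ → Prop}
    (hP : ∀ s ∈ T.gens, ∀ c < 3510, P c → P (trW (iW s) c)) {c : ℕ} (hc : c < 3510) (hcc : cand c = true)
    (hPc : P c) : ∃ r ∈ T.roots, P (ipt r) := by
  have h := forallFrom_elim hcov (i := c) (Nat.zero_le _) (by omega)
  simp only [covB, hcc, cond_true, Bool.and_eq_true, Nat.beq_eq] at h
  obtain ⟨h1, h2⟩ := h
  exact (forest_elim N hroots hgens hent hP _ (by simpa using h1)).2 (h2 ▸ hPc)

end CfsgLib.Recog.FiTrans23
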