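import Cfsg.Agent.Lib.Recog.FiTrans23.CheckNodes
import Cfsg.Agent.Lib.Recog.FiTrans23.CheckLeaves
import Cfsg.Agent.Lib.Recog.FiTrans23.CheckStd
import Cfsg.Agent.Lib.Recog.FiTrans23.CheckRep0
import Cfsg.Agent.Lib.Recog.FiTrans23.CheckRep1
import Cfsg.Agent.Lib.Recog.FiTrans23.CheckRep2

set_option autoImplicit false
set_option maxRecDepth 20000

/-! The checks of the search tree (owner: helper22). -/

namespace CfsgLib.Recog.FiTrans23

open CfsgLib.ThreeTrans CfsgLib.Recog.FiM22 CfsgLib.Recog.FiM22.Tuple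

theorem reps_checked : ∀ R ∈ reps, repOK R = true ∧ (List.range R.forest.roots.length).all (rootOK R) = true := by
  intro R hR
  simp only [reps, List.mem_cons, List.not_mem_nil, or_false] at hR
  rcases hR with rfl | rfl | rfl
  exacts [⟨rep_checked_0, roots_checked_0⟩, ⟨rep_checked_1, roots_checked_1⟩, ⟨rep_checked_2, roots_checked_2⟩]

end CfsgLib.Recog.FiTrans23
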