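import Cfsg.Agent.Lib.Recog.FiTrans23.Program
import Cfsg.Agent.Lib.Recog.FiTrans23.SearchData

set_option autoImplicit false
set_option maxRecDepth 20000

/-! The predicates checked on the search tree (owner: helper22). -/

namespace CfsgLib.Recog.FiTrans23

open CfsgLib.ThreeTrans CfsgLib.Recog.FiM22 CfsgLib.Recog.FiM22.Tuple
open CfsgLib.ThreeTrans.CosetIndex (forallFrom)

/-- The positions joined in the pattern of a member with its seven. -/
noncomputable def padj (i j : ℕ) : Bool :=
  [10, 11, 12, 29, 38, 39, 47, 55].any fun e => Nat.beq e (8 * i + j) || Nat.beq e (8 * j + i)

/-- A coset fit to be the next position. -/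
noncomputable def pcand (pre : List Item) (c : ℕ) : Bool :=
  (List.range pre.length).all fun j =>
    (commB (item pre j) c == !(padj j pre.length)) && !Nat.beq c (ipt (item pre j))

/-- A node. -/
noncomputable def nodeOK' (T : TNode) : Bool :=
  headOK T && (forallFrom (entOK T) 0 T.size && forallFrom (covB T (pcand T.pre)) 0 3510)

/-- The members not commuting with the first, without the skipped ones. -/
noncomputable def rcand (skip : List ℕ) (c : ℕ) : Bool :=
  !commB ([], 0) c && skip.all fun s => !Nat.beq s c

/-- A member commutes with the first and differs from it. -/
noncomputable def nearB (c : ℕ) : Bool := commB ([], 0) c && !Nat.beq c 0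

/-- The certificate at the root. -/
noncomputable def certOK (gens : List Item) (r : Item) : Cert → Bool
  | .blow steps k ids =>
    stepsOK 9 steps 9 && (Nat.blt k 9 && (Nat.beq ids.length 127 &&
      (let v := vals (gens ++ [([], 0), r]) steps
       let g := item (gens ++ [([], 0), r]) k
       ids.all (fun i => Nat.blt i v.length) &&
        (distinctB (ids.map fun i => v.getD i 0) &&
          (ids.map fun i => v.getD i 0).all fun c => commB g c && !Nat.beq c (ipt g)))))
  | .good steps eight =>
    stepsOK 9 steps 9 && (Nat.beq eight.length 8 &&
      (let v := vals (gens ++ [([], 0), r]) steps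
       eight.all (fun e => itemOK e.2 && (Nat.blt e.1 v.length && Nat.beq (ipt e.2) (v.getD e.1 0))) &&
        (List.range 8).all fun i => (List.range 8).all fun j =>
          commB (eight.getD i (0, ([], 0))).2 (ipt (eight.getD j (0, ([], 0))).2) == !(adjT i j)))

/-- The members of a set of 126 together with the first and the skipped ones. -/
noncomputable def known (R : Rep) : List ℕ := 0 :: (vals R.forest.gens prog ++ R.skip)

/-- A set of 126 members. -/
noncomputable def repOK (R : Rep) : Bool :=
  (Nat.beq R.forest.gens.length 7 && (R.forest.gens.all itemOK && R.forest.roots.all itemOK)) &&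
    ((forallFrom (entOK R.forest) 0 R.forest.size && forallFrom (covB R.forest (rcand R.skip)) 0 3510) &&
      ((let v := vals R.forest.gens prog
        distinctB v && (Nat.beq v.length 126 && v.all nearB)) &&
        (Nat.blt ((known R).filter fun c => commB (item R.forest.gens 0) c).length 126 &&
          Nat.beq R.forest.roots.length R.certs.length)))

/-- The certificate of a root. -/
noncomputable def rootOK (R : Rep) (n : ℕ) : Bool :=
  certOK R.forest.gens (item R.forest.roots n) (R.certs.getD n (.good [] []))

/-- A leaf. -/
noncomputable def leafOK' (l : List Item × Option ℕ) : Bool :=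
  (Nat.beq l.1.length 8 && l.1.all itemOK) &&
    (match l.2 with
    | none => !distinctB (vals l.1.tail prog)
    | some k => Nat.blt k 3 &&
      (reps.getD k rep0).forest.gens.all fun g => (vals l.1.tail prog).contains (ipt g))

/-- The standard configuration: seven members and exactly 126 in all commuting with both far members. -/
noncomputable def stdOK : Bool :=
  ((itemOK stdFar && !commB ([], 0) (ipt stdFar)) && (Nat.beq stdSeven.length 7 && stdSeven.all itemOK)) &&
    (let v := vals stdSeven prog
     (distinctB v && v.all (fun c => nearB c && commB stdFar c && !Nat.beq c (ipt stdFar))) &&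
      ((List.range 7).all (fun i => (List.range 7).all fun j =>
          commB (item stdSeven i) (ipt (item stdSeven j)) == !(padj (i + 1) (j + 1))) &&
        (Nat.beq v.length 126 &&
          forallFrom (fun c => cond (commB ([], 0) c && (commB stdFar c && (!Nat.beq c 0 && !Nat.beq c (ipt stdFar))))
            (v.contains c) true) 0 3510)))

end CfsgLib.Recog.FiTrans23
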