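import Cfsg.Agent.Lib.Recog.FiM22Two.DoubleFusion
import Cfsg.Agent.Lib.Recog.FiTypes.Type22
import Cfsg.Agent.Lib.Components.Quasisimple
import Cfsg.Prelude.Def_CaseTheorems

/-!
The conjugates of an involution with centralizer 2.Fi22 which commute with it are one lift of each transposition of
the quotient (owner: helper22).
-/

set_option autoImplicit false
set_option maxRecDepth 20000

namespace CfsgLib.Recog.FiTrans23

open Cfsg CfsgLib.ThreeTrans CfsgLib.Recog.FiM22
open scoped commutatorElement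
open CfsgLib.Recog.FiM22Two (DoubleCover BigModule bigG members pairs triplesIn ea_closure)

universe u v

/-- The situation: the centralizer of the involution is a double cover of a group of type M(22). -/
structure Local {G : Type v} [Group G] [Finite G] (d : G) (Q : Type u) [Group Q] [Finite Q] where
  /-- the map of the centralizer -/
  π : ↥(Subgroup.centralizer ({d} : Set G)) →* Q
  /-- the involution in its centralizer -/
  δ : ↥(Subgroup.centralizer ({d} : Set G))
  /-- the class of the quotient -/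
  E : Set Q
  cover : DoubleCover π δ E
  coe : (δ : G) = d
  fused : ∃ g : G, g * d * g⁻¹ ∈ Subgroup.centralizer ({d} : Set G) ∧ g * d * g⁻¹ ≠ d

/-- The map onto the quotient with the class of the given type. -/
theorem exists_local {G : Type v} [Group G] [Finite G] (d : G) (hd : orderOf d = 2)
    (hq : Cfsg.IsQuasisimple ↥(Subgroup.centralizer ({d} : Set G)))
    [hzn : ((Subgroup.zpowers d).subgroupOf (Subgroup.centralizer ({d} : Set G))).Normal]
    (E : Set (↥(Subgroup.centralizer ({d} : Set G)) ⧸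
      (Subgroup.zpowers d).subgroupOf (Subgroup.centralizer ({d} : Set G))))
    (hE : IsThreeTranspositionClass E) (h22 : IsOfTypeM22 _ E)
    (hnwc : ∃ g : G, g * d * g⁻¹ ∈ Subgroup.centralizer ({d} : Set G) ∧ g * d * g⁻¹ ≠ d) :
    ∃ X : Local d (↥(Subgroup.centralizer ({d} : Set G)) ⧸
      (Subgroup.zpowers d).subgroupOf (Subgroup.centralizer ({d} : Set G))), X.E = E := by
  let C := Subgroup.centralizer ({d} : Set G)
  let N := (Subgroup.zpowers d).subgroupOf C
  have hd1 : d ≠ 1 := fun h => by rw [h, orderOf_one] at hd; exact absurd hd (by norm_num)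
  have hdd : d * d = 1 := by rw [← pow_two, ← hd, pow_orderOf_eq_one]
  let δ : C := ⟨d, Subgroup.mem_centralizer_singleton_iff.2 rfl⟩
  have hker : ∀ x : C, QuotientGroup.mk' N x = 1 ↔ x = 1 ∨ x = δ := fun x => by
    rw [← MonoidHom.mem_ker, QuotientGroup.ker_mk', Subgroup.mem_subgroupOf]
    constructor
    · rintro ⟨k, hk⟩
      change d ^ k = (x : G) at hk
      rcases Int.even_or_odd k with ⟨m, rfl⟩ | ⟨m, rfl⟩
      · rw [zpow_add, ← (Commute.refl d).mul_zpow, hdd, one_zpow] at hk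
        exact Or.inl (Subtype.ext hk.symm)
      · rw [two_mul, zpow_add, zpow_add, ← (Commute.refl d).mul_zpow, hdd, one_zpow, one_mul, zpow_one] at hk
        exact Or.inr (Subtype.ext hk.symm)
    · rintro (rfl | rfl)
      · exact one_mem _
      · exact Subgroup.mem_zpowers d
  have hNtop : N ≠ ⊤ := by
    intro h
    obtain ⟨a, b, hab⟩ : ∃ a b : C, a * b ≠ b * a := by
      by_contra hcon
      push Not at hcon
      refine Components.IsQuasisimple.not_isNilpotent hq ?_
      letI : CommGroup C := { (inferInstance : Group C) with mul_comm := hcon }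
      exact CommGroup.isNilpotent
    rcases (hker a).1 ((QuotientGroup.eq_one_iff a).2 (h ▸ Subgroup.mem_top a)) with rfl | rfl
    · exact hab (by rw [one_mul, mul_one])
    · exact hab (Subtype.ext (Subgroup.mem_centralizer_singleton_iff.1 b.2).symm)
  have hQ : Cfsg.IsQuasisimple (C ⧸ N) := Components.IsQuasisimple.quotient hq hNtop
  have hgrp : IsThreeTranspositionGroup E := group_of_class hE
  have h2 : ∃ a ∈ E, ∃ b ∈ E, a ≠ b := by
    obtain ⟨-, a, ha, c, hc, -⟩ := h22
    by_contra hcon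
    push Not at hcon
    obtain ⟨x, y, hxy⟩ : ∃ x y : C ⧸ N, x * y ≠ y * x := by
      by_contra h
      push Not at h
      refine Components.IsQuasisimple.not_isNilpotent hQ ?_
      letI : CommGroup (C ⧸ N) := { (inferInstance : Group (C ⧸ N)) with mul_comm := h }
      exact CommGroup.isNilpotent
    refine hxy ?_
    have hcl : ∀ z : C ⧸ N, z ∈ Subgroup.zpowers a := fun z => by
      have hz : z ∈ Subgroup.closure E := hE.2.2 ▸ Subgroup.mem_top z
      exact (Subgroup.closure_le _).2 (fun w hw => hcon w hw a ha ▸ Subgroup.mem_zpowers a) hz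
    obtain ⟨i, rfl⟩ := hcl x
    obtain ⟨j, rfl⟩ := hcl y
    exact ((Commute.refl a).zpow_zpow i j).eq
  refine ⟨⟨QuotientGroup.mk' N, δ, E, ⟨QuotientGroup.mk'_surjective N, hker, fun h => hd1 (congrArg Subtype.val h),
    hq.1.commutator_eq_top, ?_, hgrp, FiM22Two.prim_of_class hE hQ h2, h22⟩, rfl, hnwc⟩, rfl⟩
  intro x hx
  rw [Subgroup.mem_center_iff]
  intro z
  rcases (hker x).1 hx with rfl | rfl
  · rw [mul_one, one_mul]
  · exact Subtype.ext (Subgroup.mem_centralizer_singleton_iff.1 z.2)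

/-- Coordinates on the centralizer of a member. -/
structure CoordAt {G : Type v} [Group G] {Q : Type u} [Group Q] (D : Set G) (E : Set Q) (w : G) (φ : G → Q) :
    Prop where
  mul : ∀ x y : G, Commute x w → Commute y w → φ (x * y) = φ x * φ y
  mem : ∀ x ∈ nbrs D w, φ x ∈ E
  inj : Set.InjOn φ (nbrs D w)
  lift : ∀ q ∈ E, ∃ x ∈ nbrs D w, φ x = q
  comm : ∀ x ∈ nbrs D w, ∀ y : G, Commute y w → (Commute (φ y) (φ x) ↔ Commute y x)

namespace CoordAt

variable {G : Type v} [Group G] {Q : Type u} [Group Q] {D : Set G} {E : Set Q} {w : G} {φ : G → Q}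
  (P : CoordAt D E w φ)
include P

theorem map_one : φ 1 = 1 := by
  have h := P.mul 1 1 (Commute.one_left w) (Commute.one_left w)
  rw [one_mul] at h
  exact mul_eq_left.1 h.symm

theorem map_inv {x : G} (hx : Commute x w) : φ x⁻¹ = (φ x)⁻¹ := by
  have h := P.mul x⁻¹ x hx.inv_left hx
  rw [inv_mul_cancel, P.map_one] at h
  exact eq_inv_of_mul_eq_one_left h.symm

theorem map_conj {x z : G} (hx : Commute x w) (hz : Commute z w) : φ (x * z * x⁻¹) = φ x * φ z * (φ x)⁻¹ := by
  rw [P.mul _ _ (hx.mul_left hz) hx.inv_left, P.mul _ _ hx hz, P.map_inv hx]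

end CoordAt

variable {G : Type v} [Group G] [Finite G] {d : G} {Q : Type u} [Group Q] [Finite Q]

namespace Local

variable (X : Local d Q)

/-- The image in the quotient. -/
noncomputable def im (x : G) : Q := by
  classical exact if h : x ∈ Subgroup.centralizer ({d} : Set G) then X.π ⟨x, h⟩ else 1

theorem im_eq (x : ↥(Subgroup.centralizer ({d} : Set G))) : X.im (x : G) = X.π x := by
  classical rw [im, dif_pos x.2]

include X

theorem mem_C {x : G} : x ∈ Subgroup.centralizer ({d} : Set G) ↔ Commute x d :=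
  Subgroup.mem_centralizer_singleton_iff

theorem im_mul {x y : G} (hx : Commute x d) (hy : Commute y d) : X.im (x * y) = X.im x * X.im y := by
  rw [show x * y = ((⟨x, X.mem_C.2 hx⟩ * ⟨y, X.mem_C.2 hy⟩ : ↥(Subgroup.centralizer ({d} : Set G))) : G) from rfl,
    X.im_eq, map_mul, ← X.im_eq, ← X.im_eq]

theorem im_d : X.im d = 1 :=
  (congrArg X.im X.coe).symm.trans ((X.im_eq X.δ).trans X.cover.map_delta)

theorem sq_d : d * d = 1 := by rw [← X.coe, ← Subgroup.coe_mul, X.cover.delta_sq]; rfl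

theorem d_ne : d ≠ 1 := fun h => X.cover.ne (Subtype.ext (X.coe.trans h))

theorem sq {x : G} (hx : x ∈ conjugatesOf d) : x * x = 1 := by
  obtain ⟨g, rfl⟩ := isConj_iff.1 hx
  rw [show g * d * g⁻¹ * (g * d * g⁻¹) = g * (d * d) * g⁻¹ by group, X.sq_d, mul_one, mul_inv_cancel]

theorem ne_one {x : G} (hx : x ∈ conjugatesOf d) : x ≠ 1 := fun h => by
  obtain ⟨g, hg⟩ := isConj_iff.1 hx
  exact X.d_ne (conj_eq_one_iff.1 (hg.trans h))

theorem conj_mem (g : G) {x : G} (hx : x ∈ conjugatesOf d) : g * x * g⁻¹ ∈ conjugatesOf d :=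
  IsConj.trans (show IsConj d x from hx) (isConj_iff.2 ⟨g, rfl⟩)

theorem nb_conj {c x : G} (hc : Commute c d) (hx : x ∈ nbrs (conjugatesOf d) d) :
    c * x * c⁻¹ ∈ nbrs (conjugatesOf d) d := by
  have hd : c * d * c⁻¹ = d := by rw [hc.eq, mul_inv_cancel_right]
  refine ⟨X.conj_mem c hx.1, fun e => hx.2.1 (mul_left_cancel (mul_right_cancel (e.trans hd.symm))), ?_⟩
  rw [← hd]
  exact commute_conj_iff.2 hx.2.2

theorem im_conj {c x : G} (hc : Commute c d) (hx : Commute x d) :
    X.im (c * x * c⁻¹) = X.im c * X.im x * (X.im c)⁻¹ := by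
  have h := X.im_mul hc.inv_left hc
  rw [inv_mul_cancel, show X.im 1 = 1 from (X.im_eq 1).trans (map_one X.π)] at h
  rw [X.im_mul (hc.mul_left hx) hc.inv_left, X.im_mul hc hx, eq_inv_of_mul_eq_one_left h.symm]

omit X in
/-- An element commuting with the involution is a lift of an element of a module after conjugation. -/
theorem exists_to_module (X : Local d Q) {K : Subgroup Q} (B : BigModule X.E K) {x : G}
    (hxd : Commute x d) (hx2 : x * x = 1) (hx1 : x ≠ 1) (hne : x ≠ d) :
    ∃ c : G, Commute c d ∧ c * x * c⁻¹ ∈ bigG X.π K := by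
  haveI : Fact (Nat.Prime 2) := ⟨Nat.prime_two⟩
  let y : ↥(Subgroup.centralizer ({d} : Set G)) := ⟨x, X.mem_C.2 hxd⟩
  have hsq : X.π y * X.π y = 1 := by
    rw [← map_mul, show y * y = 1 from Subtype.ext hx2, map_one]
  have hy1 : X.π y ≠ 1 := fun h => by
    rcases (X.cover.ker y).1 h with e | e
    · exact hx1 (congrArg Subtype.val e)
    · exact hne ((congrArg Subtype.val e).trans X.coe)
  obtain ⟨l, hl, -, -, hp⟩ := FiM22Two.involution_factor X.cover.grp X.cover.prim X.cover.type22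
    (orderOf_eq_prime (by rw [pow_two]; exact hsq) hy1)
  set F := Subgroup.closure {z : Q | z ∈ l}
  have hF : IsElementaryAbelian 2 F := ea_closure hl.comm fun z hz => by
    rw [← pow_two, ← X.cover.grp.1.1 z (hl.mem z hz), pow_orderOf_eq_one]
  obtain ⟨T, hT⟩ := (show IsPGroup 2 F from fun z => ⟨1, Subtype.ext (by simpa using hF.2 z z.2)⟩).exists_le_sylow
  obtain ⟨K', B', -, hK'⟩ := FiM22Two.exists_big_in X.cover.grp X.cover.prim X.cover.type22 T
  have hyK : X.π y ∈ K' := by
    rw [← hp]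
    exact list_prod_mem fun z hz => hK' ▸ Subgroup.subset_closure ⟨hl.mem z hz, hT (Subgroup.subset_closure hz)⟩
  obtain ⟨q, hq⟩ := FiM22Two.modules_conj B B'
  obtain ⟨c, rfl⟩ := X.cover.surj q
  refine ⟨c, X.mem_C.1 c.2, c * y * c⁻¹, ?_, rfl⟩
  show X.π _ ∈ K
  rw [← hq, map_mul, map_mul, map_inv]
  exact ⟨_, hyK, rfl⟩

omit X in
/-- In a module the conjugates of the involution other than it are one lift of each member. -/
theorem module_facts (X : Local d Q) {K : Subgroup Q} (B : BigModule X.E K) :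
    Set.BijOn X.im (bigG X.π K ∩ {x : G | IsConj d x ∧ x ≠ d}) (members X.E K) := by
  classical
  set M : Set G := (bigG X.π K : Set G) ∩ {x : G | IsConj d x ∧ x ≠ d}
  have hMcard : M.ncard = 22 := by
    have h := X.cover.ncard_conjugates B X.coe X.fused
    have he : {x : G | x ∈ bigG X.π K ∧ IsConj d x} = insert d M := by
      ext x
      constructor
      · rintro ⟨hx, hc⟩
        by_cases e : x = d
        · exact Or.inl e
        · exact Or.inr ⟨hx, hc, e⟩
      · rintro (rfl | ⟨hx, hc, -⟩)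
        · exact ⟨X.cover.d_mem_bigG B X.coe, IsConj.refl _⟩
        · exact ⟨hx, hc⟩
    rw [he, Set.ncard_insert_of_notMem (fun hx => hx.2.2 rfl) (Set.toFinite _)] at h
    omega
  have hMC : ∀ x ∈ M, Commute x d := fun x hx => by
    obtain ⟨c, -, rfl⟩ := hx.1
    exact X.mem_C.1 c.2
  have hmove : ∀ x ∈ M, ∀ g : Q, g * X.im x * g⁻¹ ∈ K → ∃ z ∈ M, X.im z = g * X.im x * g⁻¹ := by
    intro x hx g hg
    obtain ⟨c, rfl⟩ := X.cover.surj g
    obtain ⟨⟨a, -, rfl⟩, hcj, hne⟩ := hx
    have hc : Commute (c : G) d := X.mem_C.1 c.2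
    have e : X.π (c * a * c⁻¹) = X.π c * X.im (a : G) * (X.π c)⁻¹ := by rw [X.im_eq, map_mul, map_mul, map_inv]
    refine ⟨((c * a * c⁻¹ : ↥(Subgroup.centralizer ({d} : Set G))) : G),
      ⟨⟨c * a * c⁻¹, ?_, rfl⟩, hcj.trans (isConj_iff.2 ⟨(c : G), rfl⟩), ?_⟩, ?_⟩
    · show X.π _ ∈ K
      rw [e]; exact hg
    · exact (X.nb_conj hc ⟨hcj, hne, (X.mem_C.1 a.2).symm⟩).2.1
    · rw [X.im_eq, e]; rfl
  have hmaps : ∀ x ∈ M, X.im x ∈ members X.E K := by
    intro x hx
    obtain ⟨⟨a, ha, rfl⟩, hcj, hne⟩ := id hx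
    have hK : X.im (a : G) ∈ K := by rw [X.im_eq]; exact ha
    have h1 : X.im (a : G) ≠ 1 := fun h => by
      rw [X.im_eq] at h
      rcases (X.cover.ker a).1 h with e | e
      · exact X.ne_one hcj (congrArg Subtype.val e)
      · exact hne ((congrArg Subtype.val e).trans X.coe)
    by_contra hn
    have hb : (X.im '' M).ncard ≤ 22 := hMcard ▸ Set.ncard_image_le (Set.toFinite _)
    by_cases hp : X.im (a : G) ∈ pairs X.E K
    · have hsub : pairs X.E K ⊆ X.im '' M := fun q hq => by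
        obtain ⟨g, hg⟩ := B.pairs_conj hp hq
        have hqK : q ∈ K := by
          obtain ⟨p, hp', r, hr, -, rfl⟩ := hq
          exact mul_mem hp'.1 hr.1
        obtain ⟨z, hz, e⟩ := hmove _ hx g (hg ▸ hqK)
        exact ⟨z, hz, e.trans hg⟩
      have := Set.ncard_le_ncard hsub (Set.toFinite _)
      rw [B.ncard_pairs] at this
      omega
    · have ht : X.im (a : G) ∈ triplesIn X.E K := ⟨⟨hK, h1⟩, fun h => h.elim hn hp⟩
      have hsub : triplesIn X.E K ⊆ X.im '' M := fun q hq => by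
        obtain ⟨g, hg⟩ := B.triples_conj ht hq
        obtain ⟨z, hz, e⟩ := hmove _ hx g (hg ▸ hq.1.1)
        exact ⟨z, hz, e.trans hg⟩
      have := Set.ncard_le_ncard hsub (Set.toFinite _)
      rw [B.ncard_triples] at this
      omega
  have himg : X.im '' M = members X.E K := by
    refine Set.Subset.antisymm (fun q ⟨x, hx, e⟩ => e ▸ hmaps x hx) fun q hq => ?_
    obtain ⟨x, hx⟩ : M.Nonempty := Set.nonempty_of_ncard_ne_zero (by rw [hMcard]; norm_num)
    obtain ⟨g, hg⟩ := X.cover.prim.1 _ (hmaps x hx).2 q hq.2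
    obtain ⟨z, hz, e⟩ := hmove x hx g (hg ▸ hq.1)
    exact ⟨z, hz, e.trans hg⟩
  refine ⟨hmaps, Set.injOn_of_ncard_image_eq (by rw [himg, B.facts.2, hMcard]) (Set.toFinite _), himg.ge⟩

theorem exists_module : ∃ K, BigModule X.E K := by
  haveI : Fact (Nat.Prime 2) := ⟨Nat.prime_two⟩
  obtain ⟨K, B, -⟩ := FiM22Two.exists_big_in X.cover.grp X.cover.prim X.cover.type22 default
  exact ⟨K, B⟩

/-- The map on the centralizer is a coordinate map at the involution. -/
theorem coord : CoordAt (conjugatesOf d) X.E d X.im := by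
  obtain ⟨K, B⟩ := X.exists_module
  have hbij := X.module_facts B
  have hmem : ∀ x ∈ nbrs (conjugatesOf d) d, X.im x ∈ X.E := by
    intro x hx
    obtain ⟨c, hc, hcx⟩ := exists_to_module X B hx.2.2.symm (X.sq hx.1) (X.ne_one hx.1) hx.2.1
    have hz := X.nb_conj hc hx
    have h := (hbij.mapsTo ⟨hcx, hz.1, hz.2.1⟩).2
    rw [X.im_conj hc hx.2.2.symm] at h
    have := X.cover.grp.2.1 (X.im c)⁻¹ _ h
    rwa [show (X.im c)⁻¹ * (X.im c * X.im x * (X.im c)⁻¹) * (X.im c)⁻¹⁻¹ = X.im x by group] at this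
  refine ⟨fun x y => X.im_mul, hmem, fun x hx y hy e => ?_, fun q hq => ?_, fun x hx y hy => ?_⟩
  · obtain ⟨c, hc, hcx⟩ := exists_to_module X B hx.2.2.symm (X.sq hx.1) (X.ne_one hx.1) hx.2.1
    have hx' := X.nb_conj hc hx
    have hy' := X.nb_conj hc hy
    have e' : X.im (c * x * c⁻¹) = X.im (c * y * c⁻¹) := by
      rw [X.im_conj hc hx.2.2.symm, X.im_conj hc hy.2.2.symm, e]
    have hcy : c * y * c⁻¹ ∈ bigG X.π K := by
      obtain ⟨a, ha, ea⟩ := id hcx
      refine ⟨⟨c * y * c⁻¹, X.mem_C.2 hy'.2.2.symm⟩, ?_, rfl⟩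
      show X.π _ ∈ K
      rw [← X.im_eq, ← e', ← ea]
      show X.im (a : G) ∈ K
      rw [X.im_eq]; exact ha
    exact mul_left_cancel (mul_right_cancel (hbij.injOn ⟨hcx, hx'.1, hx'.2.1⟩ ⟨hcy, hy'.1, hy'.2.1⟩ e'))
  · obtain ⟨p, hp⟩ := Set.nonempty_of_ncard_ne_zero (show (members X.E K).ncard ≠ 0 by rw [B.facts.2]; norm_num)
    obtain ⟨z, ⟨hzA, hzc, hzd⟩, rfl⟩ := hbij.surjOn hp
    have hzd' : Commute z d := by
      obtain ⟨a, -, rfl⟩ := hzA
      exact X.mem_C.1 a.2
    obtain ⟨g, hg⟩ := X.cover.prim.1 _ hp.2 q hq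
    obtain ⟨c, rfl⟩ := X.cover.surj g
    have hc : Commute (c : G) d := X.mem_C.1 c.2
    exact ⟨_, X.nb_conj hc ⟨hzc, hzd, hzd'.symm⟩, by rw [X.im_conj hc hzd', X.im_eq]; exact hg⟩
  · let xC : ↥(Subgroup.centralizer ({d} : Set G)) := ⟨x, X.mem_C.2 hx.2.2.symm⟩
    let yC : ↥(Subgroup.centralizer ({d} : Set G)) := ⟨y, X.mem_C.2 hy⟩
    rw [show X.im y = X.π yC from X.im_eq yC, show X.im x = X.π xC from X.im_eq xC]
    refine ⟨fun h => ?_, fun h => (show Commute yC xC from Subtype.ext h.eq).map X.π⟩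
    have h' := hmem x hx
    rw [show X.im x = X.π xC from X.im_eq xC] at h'
    exact (X.cover.comm h' h).map (Subgroup.centralizer ({d} : Set G)).subtype

/-- Coordinates at every conjugate. -/
theorem coord_at {w : G} (hw : w ∈ conjugatesOf d) : ∃ φ : G → Q, CoordAt (conjugatesOf d) X.E w φ := by
  obtain ⟨g, rfl⟩ := isConj_iff.1 hw
  have hD : ∀ x, g⁻¹ * x * g ∈ nbrs (conjugatesOf d) d ↔ x ∈ nbrs (conjugatesOf d) (g * d * g⁻¹) := by
    intro x
    constructor
    · intro h
      refine ⟨?_, fun e => h.2.1 (by rw [e]; group), ?_⟩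
      · simpa [mul_assoc] using X.conj_mem g h.1
      · simpa [mul_assoc] using (commute_conj_iff (g := g)).2 h.2.2
    · intro h
      refine ⟨?_, fun e => h.2.1 (by rw [← e]; group), ?_⟩
      · simpa [mul_assoc] using X.conj_mem g⁻¹ h.1
      · simpa [mul_assoc] using (commute_conj_iff (g := g⁻¹)).2 h.2.2
  have hcm : ∀ x, Commute x (g * d * g⁻¹) → Commute (g⁻¹ * x * g) d := fun x h => by
    simpa [mul_assoc] using (commute_conj_iff (g := g⁻¹)).2 h
  refine ⟨fun x => X.im (g⁻¹ * x * g), fun x y hx hy => ?_, fun x hx => X.coord.mem _ ((hD x).2 hx),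
    fun x hx y hy e => ?_, fun q hq => ?_, fun x hx y hy => ?_⟩
  · show X.im _ = X.im _ * X.im _
    rw [← X.im_mul (hcm x hx) (hcm y hy)]
    group
  · exact mul_left_cancel (mul_right_cancel (X.coord.inj ((hD x).2 hx) ((hD y).2 hy) e))
  · obtain ⟨z, hz, e⟩ := X.coord.lift q hq
    refine ⟨g * z * g⁻¹, (hD _).1 (by simpa [mul_assoc] using hz), ?_⟩
    show X.im (g⁻¹ * (g * z * g⁻¹) * g) = q
    rw [show g⁻¹ * (g * z * g⁻¹) * g = z by group, e]
  · refine (X.coord.comm _ ((hD x).2 hx) _ (hcm y hy)).trans ?_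
    simpa using (commute_conj_iff (g := g⁻¹) (a := y) (b := x))

theorem center_Q : Subgroup.center Q = ⊥ := X.cover.type22.1

theorem closure_E : Subgroup.closure X.E = ⊤ := X.cover.grp.2.2

/-- The neighbours generate the centralizer. -/
theorem closure_nb : Subgroup.closure (nbrs (conjugatesOf d) d) = Subgroup.centralizer ({d} : Set G) := by
  set R := Subgroup.closure (nbrs (conjugatesOf d) d)
  have hle : R ≤ Subgroup.centralizer ({d} : Set G) :=
    (Subgroup.closure_le _).2 fun x hx => X.mem_C.2 hx.2.2.symm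
  refine le_antisymm hle ?_
  set R' := R.subgroupOf (Subgroup.centralizer ({d} : Set G))
  have hmap : R'.map X.π = ⊤ := by
    rw [eq_top_iff, ← X.closure_E, Subgroup.closure_le]
    intro q hq
    obtain ⟨x, hx, e⟩ := X.coord.lift q hq
    exact ⟨⟨x, X.mem_C.2 hx.2.2.symm⟩, Subgroup.subset_closure hx, by rw [← X.im_eq]; exact e⟩
  have hder : commutator ↥(Subgroup.centralizer ({d} : Set G)) ≤ R' := by
    rw [commutator_def, Subgroup.commutator_le]
    intro p _ q _
    obtain ⟨p', hp', ep⟩ := hmap.symm ▸ (Subgroup.mem_top (X.π p))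
    obtain ⟨q', hq', eq'⟩ := hmap.symm ▸ (Subgroup.mem_top (X.π q))
    have hz : ∀ {a a' : ↥(Subgroup.centralizer ({d} : Set G))}, X.π a' = X.π a →
        a = a' ∨ a = a' * X.δ := fun h => X.cover.lift_eq h
    have key : ∀ {a b : ↥(Subgroup.centralizer ({d} : Set G))},
        (a * X.δ) * b * (a * X.δ)⁻¹ * b⁻¹ = a * b * a⁻¹ * b⁻¹ := by
      intro a b
      rw [mul_inv_rev, show a * X.δ * b * (X.δ⁻¹ * a⁻¹) = a * (X.δ * b * X.δ⁻¹) * a⁻¹ by group, ← X.cover.central,
        mul_inv_cancel_right]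
    have key' : ∀ {a b : ↥(Subgroup.centralizer ({d} : Set G))},
        a * (b * X.δ) * a⁻¹ * (b * X.δ)⁻¹ = a * b * a⁻¹ * b⁻¹ := by
      intro a b
      rw [mul_inv_rev, show a * (b * X.δ) * a⁻¹ * (X.δ⁻¹ * b⁻¹) = a * b * (X.δ * a⁻¹ * X.δ⁻¹) * b⁻¹ by group,
        ← X.cover.central, mul_inv_cancel_right]
    have hval : ⁅p, q⁆ = p' * q' * p'⁻¹ * q'⁻¹ := by
      rw [commutatorElement_def]
      rcases hz ep with rfl | rfl <;> rcases hz eq' with rfl | rfl
      exacts [rfl, key', key, key.trans key']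
    rw [hval]
    exact mul_mem (mul_mem (mul_mem hp' hq') (inv_mem hp')) (inv_mem hq')
  intro x hx
  exact hder (X.cover.perfect ▸ Subgroup.mem_top (⟨x, hx⟩ : ↥(Subgroup.centralizer ({d} : Set G))))

/-- What commutes with all the neighbours is trivial or the involution. -/
theorem central_cases {x : G} (hx : Commute x d) (hall : ∀ z ∈ nbrs (conjugatesOf d) d, Commute x z) :
    x = 1 ∨ x = d := by
  let xC : ↥(Subgroup.centralizer ({d} : Set G)) := ⟨x, X.mem_C.2 hx⟩
  have h1 : X.π xC ∈ Subgroup.center Q := by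
    rw [Subgroup.mem_center_iff]
    intro q
    obtain ⟨w, rfl⟩ := X.cover.surj q
    have hw : Commute x (w : G) := RankThree.commute_closure hall (by rw [X.closure_nb]; exact w.2)
    exact (((show Commute xC w from Subtype.ext hw.eq).map X.π).eq).symm
  rw [X.center_Q, Subgroup.mem_bot] at h1
  rcases (X.cover.ker xC).1 h1 with e | e
  · exact Or.inl (congrArg Subtype.val e)
  · exact Or.inr ((congrArg Subtype.val e).trans X.coe)

/-- The product of a neighbour and the involution is no conjugate. -/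
theorem mul_d_notMem {x : G} (hx : x ∈ nbrs (conjugatesOf d) d) : x * d ∉ conjugatesOf d := by
  intro h
  have hxd : Commute d (x * d) := hx.2.2.mul_right (Commute.refl d)
  have hne : x * d ≠ d := fun e => X.ne_one hx.1 (mul_eq_right.1 e)
  have e : X.im (x * d) = X.im x := by
    rw [X.im_mul hx.2.2.symm (Commute.refl d)]
    rw [X.im_d, mul_one]
  have := X.coord.inj ⟨h, hne, hxd⟩ hx e
  exact X.d_ne (mul_eq_left.1 this)

end Local

end CfsgLib.Recog.FiTrans23
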